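import Mathlib
import Groth.Agent.GenFree.Algebra

/-!
Families of maps which stay separating after every localisation at one element, and their
stability under flat base change of finite type over a Noetherian ring.
-/

set_option autoImplicit false
set_option linter.style.haveILetI false
set_option backward.isDefEq.respectTransparency false

universe u

open TensorProduct

namespace Groth.Agent.SepLib

/-- The family `u` is separating on every basic open set. -/
def Sep {R : Type u} [CommRing R] {M : Type u} [AddCommGroup M] [Module R M] {ι : Type u}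
    {G : ι → Type u} [∀ i, AddCommGroup (G i)] [∀ i, Module R (G i)] (u : ∀ i, M →ₗ[R] G i) :
    Prop :=
  ∀ (a : R) (m : M), (∀ i, ∃ n : ℕ, a ^ n • u i m = 0) → ∃ n : ℕ, a ^ n • m = 0

variable {R : Type u} [CommRing R] {M : Type u} [AddCommGroup M] [Module R M] {ι : Type u}
  {G : ι → Type u} [∀ i, AddCommGroup (G i)] [∀ i, Module R (G i)] (u : ∀ i, M →ₗ[R] G i)

variable {u} in
theorem Sep.eq_zero (h : Sep u) {m : M} (hm : ∀ i, u i m = 0) : m = 0 := by
  obtain ⟨n, hn⟩ := h 1 m fun i => ⟨0, by simp [hm i]⟩
  simpa using hn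

variable {u} in
theorem Sep.domRestrict (h : Sep u) (N : Submodule R M) : Sep fun i => (u i).domRestrict N := by
  intro a m hm
  obtain ⟨n, hn⟩ := h a m.1 hm
  exact ⟨n, Subtype.ext hn⟩

/-- The base change of the family is separating on every basic open set. -/
def SepBC (B : Type u) [CommRing B] [Algebra R B] : Prop :=
  Sep fun i => (u i).baseChange B

/-- A family with trivial common kernel keeps it after tensoring with a free module. -/
theorem eq_zero_of_free (hu : ∀ m, (∀ i, u i m = 0) → m = 0) (P : Type u) [AddCommGroup P]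
    [Module R P] [Module.Free R P] (y : P ⊗[R] M) (hy : ∀ i, (u i).lTensor P y = 0) : y = 0 := by
  classical
  let b := Module.Free.chooseBasis R P
  let φ : ∀ (N : Type u) [AddCommGroup N] [Module R N],
      P ⊗[R] N ≃ₗ[R] (Module.Free.ChooseBasisIndex R P →₀ N) := fun N _ _ =>
    TensorProduct.congr b.repr (LinearEquiv.refl R N) ≪≫ₗ TensorProduct.finsuppScalarLeft R N _
  have hnat : ∀ i (z : P ⊗[R] M) j, φ (G i) ((u i).lTensor P z) j = u i (φ M z j) := by
    intro i z j
    induction z using TensorProduct.induction_on with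
    | zero => simp
    | tmul p m => simp [φ, TensorProduct.finsuppScalarLeft_apply_tmul_apply]
    | add x y hx hy => simp only [map_add, Finsupp.coe_add, Pi.add_apply, hx, hy]
  refine (φ M).injective ?_
  rw [map_zero]
  ext j
  refine hu _ fun i => ?_
  rw [← hnat, hy i, map_zero]
  rfl

/-- Over a domain, a tensor with a finite type algebra killed by a separating family is killed by a
nonzero element of the base. -/
theorem exists_smul_eq_zero_of_domain [IsDomain R] [IsNoetherianRing R] (hu : Sep u)
    (S : Type u) [CommRing S] [Algebra R S] [Algebra.FiniteType R S] (z : S ⊗[R] M)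
    (hz : ∀ i, (u i).lTensor S z = 0) : ∃ f : R, f ≠ 0 ∧ f • z = 0 := by
  obtain ⟨f, -, hf, hfree, -, -⟩ :=
    GenFree.exists_generic (R := R) (S := S) (M := S) (g := (1 : R)) one_ne_zero
  let L := Localization.Away f
  haveI : Module.Free L (L ⊗[R] S) := hfree
  let ψ : ∀ (N : Type u) [AddCommGroup N] [Module R N],
      L ⊗[R] (S ⊗[R] N) ≃ₗ[L] (L ⊗[R] S) ⊗[L] (L ⊗[R] N) := fun N _ _ =>
    AlgebraTensorModule.distribBaseChange R L S N
  have hnat : ∀ i (w : L ⊗[R] (S ⊗[R] M)), ψ (G i) (((u i).lTensor S).baseChange L w) =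
      ((u i).baseChange L).lTensor (L ⊗[R] S) (ψ M w) := by
    intro i w
    induction w using TensorProduct.induction_on with
    | zero => simp
    | tmul a x =>
      induction x using TensorProduct.induction_on with
      | zero => simp
      | tmul s m =>
        simp [ψ, AlgebraTensorModule.distribBaseChange_tmul]
      | add x y hx hy => simp only [TensorProduct.tmul_add, map_add, hx, hy]
    | add x y hx hy => simp only [map_add, hx, hy]
  have hjoint : ∀ w : L ⊗[R] M, (∀ i, (u i).baseChange L w = 0) → w = 0 := by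
    intro w hw
    obtain ⟨⟨m, ⟨_, k, rfl⟩⟩, hk⟩ :=
      IsLocalizedModule.surj (Submonoid.powers f) (TensorProduct.mk R L M 1) w
    simp only [TensorProduct.mk_apply, Submonoid.smul_def] at hk
    have h0 : ∀ i, ∃ n : ℕ, f ^ n • u i m = 0 := by
      intro i
      have : (1 : L) ⊗ₜ[R] u i m = 0 := by
        rw [← LinearMap.baseChange_tmul, ← hk, LinearMap.map_smul_of_tower, hw i, smul_zero]
      obtain ⟨⟨_, n, rfl⟩, hn⟩ := (IsLocalizedModule.eq_zero_iff (Submonoid.powers f)
        (TensorProduct.mk R L (G i) 1)).1 this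
      exact ⟨n, hn⟩
    obtain ⟨n, hn⟩ := hu f m h0
    have hm : (1 : L) ⊗ₜ[R] m = 0 :=
      (IsLocalizedModule.eq_zero_iff (Submonoid.powers f) (TensorProduct.mk R L M 1)).2
        ⟨⟨_, n, rfl⟩, hn⟩
    rw [hm] at hk
    have hu' : IsUnit (algebraMap R L (f ^ k)) := by
      rw [map_pow]; exact (IsLocalization.Away.algebraMap_isUnit f).pow k
    rw [← IsScalarTower.algebraMap_smul L (f ^ k) w] at hk
    exact hu'.smul_eq_zero.1 hk
  have h1 : (1 : L) ⊗ₜ[R] z = 0 := by
    refine (ψ M).injective ?_
    rw [map_zero]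
    refine eq_zero_of_free (fun i => (u i).baseChange L) hjoint _ _ fun i => ?_
    rw [← hnat, LinearMap.baseChange_tmul, hz i, TensorProduct.tmul_zero, map_zero]
  obtain ⟨⟨_, n, rfl⟩, hn⟩ := (IsLocalizedModule.eq_zero_iff (Submonoid.powers f)
    (TensorProduct.mk R L (S ⊗[R] M) 1)).1 h1
  exact ⟨f ^ n, pow_ne_zero n hf, hn⟩

/-- Flat base change of finite type over a Noetherian ring, for a finite module. -/
theorem eq_zero_of_flat_aux [IsNoetherianRing R] [Module.Finite R M] (hu : Sep u)
    (B : Type u) [CommRing B] [Algebra R B] [Algebra.FiniteType R B] [Module.Flat R B]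
    (y : B ⊗[R] M) (hy : ∀ i, (u i).baseChange B y = 0) : y = 0 := by
  haveI : IsNoetherianRing B := Algebra.FiniteType.isNoetherianRing R B
  let K : Submodule B (B ⊗[R] M) := ⨅ i, LinearMap.ker ((u i).baseChange B)
  by_contra hne
  have hyK : y ∈ K := by simpa [K] using hy
  obtain ⟨q, hq, -⟩ := exists_le_isAssociatedPrime_of_isNoetherianRing B (⟨y, hyK⟩ : K)
    (fun h => hne (congrArg Subtype.val h))
  obtain ⟨hqp, ⟨z, hzK⟩, hz⟩ := (isAssociatedPrime_iff (R := B)).1 hq
  have hqz : ∀ b : B, b ∈ q ↔ b • z = 0 := fun b => by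
    rw [hz, Submodule.mem_colon_singleton, Submodule.mem_bot, ← Subtype.coe_inj]
    rfl
  have hzu : ∀ i, (u i).baseChange B z = 0 := by simpa [K] using hzK
  let p : Ideal R := q.comap (algebraMap R B)
  have hpz : ∀ r ∈ p, r • z = 0 := fun r hr => by
    rw [← IsScalarTower.algebraMap_smul B r z]
    exact (hqz _).1 hr
  -- `z` comes from the part of `M` killed by `p`
  obtain ⟨s, hs⟩ := IsNoetherian.noetherian p
  let φ : M →ₗ[R] (s → M) := LinearMap.pi fun a => (a.1 : R) • LinearMap.id
  let N : Submodule R M := Submodule.torsionBySet R M p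
  have hφ : Function.Exact N.subtype φ := by
    intro m
    constructor
    · intro hm
      have key : ∀ r ∈ Submodule.span R (s : Set R), r • m = 0 := by
        intro r hr
        induction hr using Submodule.span_induction with
        | mem x hx => exact congrFun hm ⟨x, hx⟩
        | zero => exact zero_smul _ _
        | add x y _ _ hx hy => rw [add_smul, hx, hy, add_zero]
        | smul c x _ hx => rw [smul_eq_mul, mul_smul, hx, smul_zero]
      exact ⟨⟨m, (Submodule.mem_torsionBySet_iff _ _).2 fun r =>
        key r.1 (hs.symm ▸ r.2)⟩, rfl⟩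
    · rintro ⟨n, rfl⟩
      funext a
      exact (Submodule.mem_torsionBySet_iff _ _).1 n.2 ⟨a.1, hs ▸ Submodule.subset_span a.2⟩
  have hzφ : φ.lTensor B z = 0 := by
    classical
    refine (TensorProduct.piRight R R B fun _ : s => M).injective ?_
    rw [map_zero]
    funext a
    have : ∀ w : B ⊗[R] M,
        TensorProduct.piRight R R B (fun _ : s => M) (φ.lTensor B w) a = (a.1 : R) • w := by
      intro w
      induction w using TensorProduct.induction_on with
      | zero => simp
      | tmul b m => simp [φ]
      | add x y hx hy => simp only [map_add, Pi.add_apply, smul_add, hx, hy]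
    rw [this]
    exact hpz _ (hs ▸ Submodule.subset_span a.2)
  obtain ⟨z', hz'⟩ := (Module.Flat.lTensor_exact B hφ z).1 hzφ
  -- restrict the maps
  let H : ∀ i, Submodule R (G i) := fun i => Submodule.torsionBySet R (G i) p
  let v : ∀ i, N →ₗ[R] H i := fun i => ((u i).comp N.subtype).codRestrict (H i) fun n =>
    (Submodule.mem_torsionBySet_iff _ _).2 fun r => by
      rw [LinearMap.comp_apply, ← map_smul, show (r : R) • N.subtype n = 0 from
        (Submodule.mem_torsionBySet_iff _ _).1 n.2 r, map_zero]
  have hvz : ∀ i, (v i).lTensor B z' = 0 := by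
    intro i
    refine Module.Flat.lTensor_preserves_injective_linearMap (H i).subtype Subtype.val_injective ?_
    rw [map_zero, ← LinearMap.lTensor_comp_apply,
      show (H i).subtype.comp (v i) = (u i).comp N.subtype from LinearMap.ext fun _ => rfl,
      LinearMap.lTensor_comp_apply, hz', ← LinearMap.baseChange_eq_ltensor]
    exact hzu i
  -- pass to the domain `R ⧸ p`
  haveI : p.IsPrime := Ideal.IsPrime.comap _
  let R' := R ⧸ p
  haveI : IsScalarTower R R' N := .of_algebraMap_smul fun _ _ => rfl
  haveI : ∀ i, IsScalarTower R R' (H i) := fun i => .of_algebraMap_smul fun _ _ => rfl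
  let v' : ∀ i, N →ₗ[R'] H i := fun i =>
    (v i).extendScalarsOfSurjective Ideal.Quotient.mk_surjective
  have hsep : Sep v' := by
    intro a n hn
    obtain ⟨a, rfl⟩ := Ideal.Quotient.mk_surjective a
    obtain ⟨k, hk⟩ := hu a n.1 fun i => by
      obtain ⟨k, hk⟩ := hn i
      rw [← map_pow] at hk
      exact ⟨k, congrArg Subtype.val hk⟩
    refine ⟨k, ?_⟩
    rw [← map_pow]
    exact Subtype.ext hk
  let S := R' ⊗[R] B
  let θ : ∀ (P : Type u) [AddCommGroup P] [Module R P] [Module R' P] [IsScalarTower R R' P],
      B ⊗[R] P ≃ₗ[R] S ⊗[R'] P := fun P _ _ _ _ =>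
    TensorProduct.comm R B P ≪≫ₗ
      ((AlgebraTensorModule.cancelBaseChange R R' R' P B).symm.trans
        (TensorProduct.comm R' P S)).restrictScalars R
  have hnat : ∀ i (w : B ⊗[R] N), θ (H i) ((v i).lTensor B w) = (v' i).lTensor S (θ N w) := by
    intro i w
    induction w using TensorProduct.induction_on with
    | zero => simp
    | tmul b n =>
      simp [θ, v']
      rfl
    | add x y hx hy => simp only [map_add, hx, hy]
  obtain ⟨f, hf, hfz⟩ := exists_smul_eq_zero_of_domain v' hsep S (θ N z') fun i => by
    rw [← hnat, hvz, map_zero]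
  obtain ⟨a, rfl⟩ := Ideal.Quotient.mk_surjective f
  have ha : a ∉ p := fun ha => hf (Ideal.Quotient.eq_zero_iff_mem.2 ha)
  have haz : a • z' = 0 := by
    refine (θ N).injective ?_
    rw [map_smul, map_zero, ← IsScalarTower.algebraMap_smul R' a (θ N z')]
    exact hfz
  refine ha ((hqz _).2 ?_)
  rw [IsScalarTower.algebraMap_smul B a z, ← hz', ← map_smul, haz, map_zero]

/-- Flat base change of finite type over a Noetherian ring. -/
theorem eq_zero_of_flat [IsNoetherianRing R] (hu : Sep u)
    (B : Type u) [CommRing B] [Algebra R B] [Algebra.FiniteType R B] [Module.Flat R B]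
    (y : B ⊗[R] M) (hy : ∀ i, (u i).baseChange B y = 0) : y = 0 := by
  classical
  obtain ⟨s, hs⟩ := TensorProduct.exists_finset y
  let M' := Submodule.span R (s.image Prod.snd : Set M)
  haveI : Module.Finite R M' := Module.Finite.span_of_finite R (Finset.finite_toSet _)
  let y' : B ⊗[R] M' := ∑ x ∈ s.attach,
    x.1.1 ⊗ₜ (⟨x.1.2, Submodule.subset_span (Finset.mem_image_of_mem _ x.2)⟩ : M')
  have hy' : M'.subtype.baseChange B y' = y := by
    simp only [y', map_sum, LinearMap.baseChange_tmul, Submodule.subtype_apply]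
    exact (Finset.sum_attach s fun x => x.1 ⊗ₜ[R] x.2).trans hs.symm
  have : y' = 0 := by
    refine eq_zero_of_flat_aux (fun i => (u i).domRestrict M') (hu.domRestrict M') B y' fun i => ?_
    rw [show (u i).domRestrict M' = (u i).comp M'.subtype from rfl, LinearMap.baseChange_comp,
      LinearMap.comp_apply, hy', hy i]
  rw [← hy', this, map_zero]

end Groth.Agent.SepLib
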