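import Mathlib
import Groth.Agent.SepLib.Basic
import Groth.Agent.FlatStage.AlgGlobal

/-!
Separating families and base change along flat finitely presented algebras, base change over a
field, base change to projective or flat algebras.
-/

set_option autoImplicit false
set_option linter.style.haveILetI false
set_option backward.isDefEq.respectTransparency false

universe u

open TensorProduct

namespace Groth.Agent.SepLib

section Model

variable (A B : Type u) [CommRing A] [CommRing B] [Algebra A B]

/-- A flat base change comes from a flat one over a finitely generated subalgebra. -/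
theorem exists_flat_subalgebra (A₁ : Type u) [CommRing A₁] [Algebra A₁ A] (B₁ : Type u)
    [CommRing B₁] [Algebra A₁ B₁] [Algebra.FinitePresentation A₁ B₁]
    [Module.Flat A (A ⊗[A₁] B₁)] :
    ∃ S : Subalgebra A₁ A, S.FG ∧ Module.Flat S (S ⊗[A₁] B₁) := by
  classical
  let Sys : PullbackMod.AlgSystem A₁ A :=
    { J := {S : Subalgebra A₁ A // S.FG}
      R := fun S => S.1
      ρ := fun S => S.1.val
      Hom := fun S T => ULift (PLift (S.1 ≤ T.1))
      τ := fun h => Subalgebra.inclusion h.down.down
      comm := fun _ => rfl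
      comp := fun h h' => ⟨⟨⟨h.down.down.trans h'.down.down⟩⟩, rfl⟩
      surj := fun S b => ⟨⟨S.1 ⊔ Algebra.adjoin A₁ {b},
          S.2.sup ⟨{b}, by rw [Finset.coe_singleton]⟩⟩, ⟨⟨le_sup_left⟩⟩,
        ⟨b, (le_sup_right : Algebra.adjoin A₁ {b} ≤ S.1 ⊔ _)
          (Algebra.subset_adjoin (Set.mem_singleton b))⟩, rfl⟩
      inj := fun S a ha => ⟨S, ⟨⟨le_rfl⟩⟩, Subtype.ext ha⟩ }
  obtain ⟨k, -, hk⟩ := FlatStage.exists_flat_stage (B := B₁) (M := B₁) Sys
    ⟨⊥, Subalgebra.fg_bot⟩ (fun S T => ⟨⟨S.1 ⊔ T.1, S.2.sup T.2⟩, ⟨⟨⟨le_sup_left⟩⟩⟩,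
      ⟨⟨⟨le_sup_right⟩⟩⟩⟩) inferInstance
  exact ⟨k.1, k.2, hk⟩

/-- Noetherian flat model from a model over a ring of finite type over `ℤ`. -/
theorem exists_noetherian_flat_model_of [Module.Flat A B] (A₁ : Type u) [CommRing A₁]
    [Algebra A₁ A] [Algebra.FiniteType ℤ A₁] (B₁ : Type u)
    [CommRing B₁] [Algebra A₁ B₁] [Algebra.FinitePresentation A₁ B₁]
    (e : A ⊗[A₁] B₁ ≃ₐ[A] B) :
    ∃ (A₀ : Type u) (_ : CommRing A₀) (_ : Algebra A₀ A) (B₀ : Type u) (_ : CommRing B₀)
      (_ : Algebra A₀ B₀), IsNoetherianRing A₀ ∧ Algebra.FiniteType A₀ B₀ ∧ Module.Flat A₀ B₀ ∧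
        Nonempty (A ⊗[A₀] B₀ ≃ₐ[A] B) := by
  haveI : Module.Flat A (A ⊗[A₁] B₁) := Module.Flat.of_linearEquiv e.toLinearEquiv
  obtain ⟨S, hS, hfl⟩ := exists_flat_subalgebra A A₁ B₁
  haveI hSf : Algebra.FiniteType A₁ S := (Subalgebra.fg_iff_finiteType _).1 hS
  haveI : Algebra.FiniteType ℤ S := Algebra.FiniteType.trans ‹Algebra.FiniteType ℤ A₁› hSf
  exact ⟨S, inferInstance, inferInstance, S ⊗[A₁] B₁, inferInstance, inferInstance,
    Algebra.FiniteType.isNoetherianRing ℤ S, inferInstance, hfl,
    ⟨(Algebra.TensorProduct.cancelBaseChange A₁ S A A B₁).trans e⟩⟩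

/-- A flat finitely presented algebra comes from a flat one over a Noetherian ring. -/
theorem exists_noetherian_flat_model [Algebra.FinitePresentation A B] [Module.Flat A B] :
    ∃ (A₀ : Type u) (_ : CommRing A₀) (_ : Algebra A₀ A) (B₀ : Type u) (_ : CommRing B₀)
      (_ : Algebra A₀ B₀), IsNoetherianRing A₀ ∧ Algebra.FiniteType A₀ B₀ ∧ Module.Flat A₀ B₀ ∧
        Nonempty (A ⊗[A₀] B₀ ≃ₐ[A] B) :=
  exists_noetherian_flat_model_of A B (Algebra.Presentation.ofFinitePresentation A B).Core
    ((Algebra.Presentation.ofFinitePresentation A B).ModelOfHasCoeffs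
      (Algebra.Presentation.ofFinitePresentation A B).Core)
    ((Algebra.Presentation.ofFinitePresentation A B).tensorModelOfHasCoeffsEquiv
      (Algebra.Presentation.ofFinitePresentation A B).Core)

end Model

variable {R : Type u} [CommRing R] {M : Type u} [AddCommGroup M] [Module R M] {ι : Type u}
  {G : ι → Type u} [∀ i, AddCommGroup (G i)] [∀ i, Module R (G i)] {u : ∀ i, M →ₗ[R] G i}

/-- Flat finitely presented base change. -/
theorem eq_zero_of_flat_fp (hu : Sep u) (B : Type u) [CommRing B] [Algebra R B]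
    [Algebra.FinitePresentation R B] [Module.Flat R B] (y : B ⊗[R] M)
    (hy : ∀ i, (u i).baseChange B y = 0) : y = 0 := by
  obtain ⟨A₀, _, _, B₀, _, _, hN, hft, hfl, ⟨e⟩⟩ := exists_noetherian_flat_model R B
  letI : Module A₀ M := Module.compHom M (algebraMap A₀ R)
  haveI : IsScalarTower A₀ R M := .of_algebraMap_smul fun _ _ => rfl
  letI : ∀ i, Module A₀ (G i) := fun i => Module.compHom (G i) (algebraMap A₀ R)
  haveI : ∀ i, IsScalarTower A₀ R (G i) := fun i => .of_algebraMap_smul fun _ _ => rfl
  have hu₀ : Sep fun i => (u i).restrictScalars A₀ := by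
    intro a m hm
    obtain ⟨n, hn⟩ := hu (algebraMap A₀ R a) m fun i => by
      obtain ⟨n, hn⟩ := hm i
      exact ⟨n, by rw [← map_pow, IsScalarTower.algebraMap_smul]; exact hn⟩
    exact ⟨n, by rw [← IsScalarTower.algebraMap_smul R (a ^ n) m, map_pow]; exact hn⟩
  let θ : ∀ (P : Type u) [AddCommGroup P] [Module R P] [Module A₀ P] [IsScalarTower A₀ R P],
      B₀ ⊗[A₀] P ≃ₗ[A₀] P ⊗[R] (R ⊗[A₀] B₀) := fun P _ _ _ _ =>
    TensorProduct.comm A₀ B₀ P ≪≫ₗ
      ((AlgebraTensorModule.cancelBaseChange A₀ R R P B₀).symm).restrictScalars A₀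
  let κ : ∀ (P : Type u) [AddCommGroup P] [Module R P],
      P ⊗[R] (R ⊗[A₀] B₀) ≃ₗ[R] B ⊗[R] P := fun P _ _ =>
    TensorProduct.congr (LinearEquiv.refl R P) e.toLinearEquiv ≪≫ₗ TensorProduct.comm R P B
  have hnat : ∀ i (w : B₀ ⊗[A₀] M),
      κ (G i) (θ (G i) (((u i).restrictScalars A₀).baseChange B₀ w)) =
        (u i).baseChange B (κ M (θ M w)) := by
    intro i w
    induction w using TensorProduct.induction_on with
    | zero => simp
    | tmul b m => simp [θ, κ]
    | add x y hx hy => simp only [map_add, hx, hy]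
  obtain ⟨z, rfl⟩ : ∃ z, κ M z = y := (κ M).surjective y
  obtain ⟨w, rfl⟩ : ∃ w, θ M w = z := (θ M).surjective z
  have hw : w = 0 := eq_zero_of_flat _ hu₀ B₀ w fun i =>
    (θ (G i)).injective ((κ (G i)).injective (by rw [hnat, hy i]; simp))
  rw [hw, map_zero, map_zero]

/-- To separate after a base change it is enough to kill common kernels on all basic opens. -/
theorem sep_baseChange_of (B : Type u) [CommRing B] [Algebra R B]
    (H : ∀ (h : B) (y : Localization.Away h ⊗[R] M),
      (∀ i, (u i).baseChange (Localization.Away h) y = 0) → y = 0) :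
    SepBC u B := by
  intro h y hy
  let L := Localization.Away h
  let θ : ∀ (P : Type u) [AddCommGroup P] [Module R P],
      L ⊗[B] (B ⊗[R] P) ≃ₗ[L] L ⊗[R] P := fun P _ _ =>
    AlgebraTensorModule.cancelBaseChange R B L L P
  have hnat : ∀ i (w : L ⊗[B] (B ⊗[R] M)),
      θ (G i) (((u i).baseChange B).baseChange L w) = (u i).baseChange L (θ M w) := by
    intro i w
    induction w using TensorProduct.induction_on with
    | zero => simp
    | tmul l x =>
      induction x using TensorProduct.induction_on with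
      | zero => simp
      | tmul b m => simp [θ]
      | add x y hx hy => simp only [TensorProduct.tmul_add, map_add, hx, hy]
    | add x y hx hy => simp only [map_add, hx, hy]
  have h0 : (1 : L) ⊗ₜ[B] y = 0 := by
    refine (θ M).injective ?_
    rw [map_zero]
    refine H h _ fun i => ?_
    rw [← hnat, LinearMap.baseChange_tmul]
    obtain ⟨n, hn⟩ := hy i
    have h0i : (1 : L) ⊗ₜ[B] (u i).baseChange B y = 0 :=
      (IsLocalizedModule.eq_zero_iff (Submonoid.powers h)
        (TensorProduct.mk B L (B ⊗[R] G i) 1)).2 ⟨⟨_, n, rfl⟩, hn⟩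
    rw [h0i, map_zero]
  obtain ⟨⟨_, n, rfl⟩, hn⟩ := (IsLocalizedModule.eq_zero_iff (Submonoid.powers h)
    (TensorProduct.mk B L (B ⊗[R] M) 1)).1 h0
  exact ⟨n, hn⟩

/-- Flat finitely presented base change preserves separation. -/
theorem Sep.baseChange_of_flat_fp (hu : Sep u) (B : Type u) [CommRing B] [Algebra R B]
    [Algebra.FinitePresentation R B] [Module.Flat R B] : SepBC u B := by
  refine sep_baseChange_of B fun h y hy => ?_
  haveI : Algebra.FinitePresentation B (Localization.Away h) :=
    IsLocalization.Away.finitePresentation h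
  haveI : Algebra.FinitePresentation R (Localization.Away h) :=
    Algebra.FinitePresentation.trans R B _
  haveI : Module.Flat R (Localization.Away h) := Module.Flat.trans R B _
  exact eq_zero_of_flat_fp hu _ y hy

/-- Projective base change preserves separation. -/
theorem Sep.baseChange_of_projective (hu : Sep u) (B : Type u) [CommRing B] [Algebra R B]
    (hB : ∀ h : B, Module.Projective R (Localization.Away h)) :
    SepBC u B := by
  refine sep_baseChange_of B fun h y hy => ?_
  let L := Localization.Away h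
  obtain ⟨s, hs⟩ := (Module.projective_def').1 (hB h)
  have hinj : Function.Injective (s.rTensor M) := Function.LeftInverse.injective
    (g := (Finsupp.linearCombination R id).rTensor M) fun w => by
      rw [← LinearMap.rTensor_comp_apply, hs, LinearMap.rTensor_id_apply]
  refine hinj ?_
  rw [map_zero]
  refine eq_zero_of_free u (fun m hm => hu.eq_zero hm) _ _ fun i => ?_
  rw [← LinearMap.comp_apply, LinearMap.lTensor_comp_rTensor, ← LinearMap.rTensor_comp_lTensor,
    LinearMap.comp_apply, ← LinearMap.baseChange_eq_ltensor, hy i, map_zero]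

/-- Flat base change preserves separation of a finite family. -/
theorem Sep.baseChange_of_finite [Finite ι] (hu : Sep u) (B : Type u) [CommRing B] [Algebra R B]
    [Module.Flat R B] : SepBC u B := by
  classical
  cases nonempty_fintype ι
  refine sep_baseChange_of B fun h y hy => ?_
  haveI : Module.Flat R (Localization.Away h) := Module.Flat.trans R B _
  have hinj : Function.Injective (LinearMap.pi u) := (injective_iff_map_eq_zero _).2 fun m hm =>
    hu.eq_zero fun i => congrFun hm i
  refine Module.Flat.lTensor_preserves_injective_linearMap (LinearMap.pi u) hinj ?_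
  rw [map_zero]
  refine (TensorProduct.piRight R R (Localization.Away h) G).injective ?_
  rw [map_zero]
  funext i
  have : ∀ w : Localization.Away h ⊗[R] M, TensorProduct.piRight R R _ G
      ((LinearMap.pi u).lTensor _ w) i = (u i).lTensor _ w := by
    intro w
    induction w using TensorProduct.induction_on with
    | zero => simp
    | tmul b m => simp
    | add x y hx hy => simp only [map_add, Pi.add_apply, hx, hy]
  rw [this, ← LinearMap.baseChange_eq_ltensor, hy i]
  rfl

/-- It is enough to separate after base change to enough subalgebras. -/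
theorem sep_baseChange_of_exhaust (B : Type u) [CommRing B] [Algebra R B]
    (H : ∀ (h : B) (y : B ⊗[R] M), ∃ (B₀ : Type u) (_ : CommRing B₀) (_ : Algebra R B₀)
      (φ : B₀ →ₐ[R] B) (h₀ : B₀) (y₀ : B₀ ⊗[R] M), φ h₀ = h ∧ φ.toLinearMap.rTensor M y₀ = y ∧
        (∀ i, Function.Injective (φ.toLinearMap.rTensor (G i))) ∧
        SepBC u B₀) :
    SepBC u B := by
  intro h y hy
  obtain ⟨B₀, _, _, φ, h₀, y₀, rfl, rfl, hinj, hsep⟩ := H h y
  have hsmul : ∀ (P : Type u) [AddCommGroup P] [Module R P] (c : B₀) (w : B₀ ⊗[R] P),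
      φ.toLinearMap.rTensor P (c • w) = φ c • φ.toLinearMap.rTensor P w := by
    intro P _ _ c w
    induction w using TensorProduct.induction_on with
    | zero => simp
    | tmul b p => simp [TensorProduct.smul_tmul']
    | add x y hx hy => simp only [smul_add, map_add, hx, hy]
  obtain ⟨n, hn⟩ := hsep h₀ y₀ fun i => by
    obtain ⟨n, hn⟩ := hy i
    refine ⟨n, hinj i ?_⟩
    rw [map_zero, hsmul, map_pow, LinearMap.baseChange_eq_ltensor, ← LinearMap.comp_apply,
      LinearMap.rTensor_comp_lTensor, ← LinearMap.lTensor_comp_rTensor, LinearMap.comp_apply,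
      ← LinearMap.baseChange_eq_ltensor]
    exact hn
  exact ⟨n, by rw [← map_pow, ← hsmul, hn, map_zero]⟩

end Groth.Agent.SepLib
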