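import Mathlib
import Groth.Agent.SepLib.FlatFP

/-!
Separating families: transport along equivalences, base change from subalgebras, base change over a
field.
-/

set_option autoImplicit false
set_option linter.style.haveILetI false
set_option backward.isDefEq.respectTransparency false

universe u

open TensorProduct

namespace Groth.Agent.SepLib

variable {R : Type u} [CommRing R] {M : Type u} [AddCommGroup M] [Module R M] {ι : Type u}
  {G : ι → Type u} [∀ i, AddCommGroup (G i)] [∀ i, Module R (G i)] {u : ∀ i, M →ₗ[R] G i}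

/-- Separation is invariant under semilinear equivalences. -/
theorem Sep.of_equiv {R' : Type u} [CommRing R'] (σ : R ≃+* R') {M' : Type u} [AddCommGroup M']
    [Module R' M'] {G' : ι → Type u} [∀ i, AddCommGroup (G' i)] [∀ i, Module R' (G' i)]
    (v : ∀ i, M' →ₗ[R'] G' i) (eM : M ≃+ M') (eG : ∀ i, G i ≃+ G' i)
    (hM : ∀ (r : R) m, eM (r • m) = σ r • eM m) (hG : ∀ i (r : R) m, eG i (r • m) = σ r • eG i m)
    (hcomm : ∀ i m, v i (eM m) = eG i (u i m)) (hu : Sep u) : Sep v := by
  intro a' m' hm'
  obtain ⟨a, rfl⟩ := σ.surjective a'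
  obtain ⟨m, rfl⟩ := eM.surjective m'
  obtain ⟨n, hn⟩ := hu a m fun i => by
    obtain ⟨n, hn⟩ := hm' i
    refine ⟨n, (eG i).injective ?_⟩
    rw [hG, map_pow, ← hcomm, hn, map_zero]
  exact ⟨n, by rw [← map_pow, ← hM, hn, map_zero]⟩

/-- Base changes along isomorphic algebras separate simultaneously. -/
theorem Sep.baseChange_congr {B B' : Type u} [CommRing B] [Algebra R B] [CommRing B'] [Algebra R B']
    (e : B ≃ₐ[R] B') (h : SepBC u B) : SepBC u B' := by
  let ε : ∀ (P : Type u) [AddCommGroup P] [Module R P], B ⊗[R] P ≃ₗ[R] B' ⊗[R] P := fun P _ _ =>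
    TensorProduct.congr e.toLinearEquiv (LinearEquiv.refl R P)
  have hsm : ∀ (P : Type u) [AddCommGroup P] [Module R P] (r : B) (m : B ⊗[R] P),
      ε P (r • m) = e r • ε P m := by
    intro P _ _ r m
    induction m using TensorProduct.induction_on with
    | zero => simp
    | tmul b p => simp [ε, TensorProduct.smul_tmul']
    | add x y hx hy => simp only [smul_add, map_add, hx, hy]
  refine h.of_equiv e.toRingEquiv _ (ε M).toAddEquiv (fun i => (ε (G i)).toAddEquiv)
    (hsm M) (fun i => hsm (G i)) fun i m => ?_
  induction m using TensorProduct.induction_on with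
  | zero => simp
  | tmul b p => simp [ε]
  | add x y hx hy => simp only [map_add, hx, hy]

/-- Iterated base change. -/
theorem sep_baseChange_trans_iff {B C : Type u} [CommRing B] [Algebra R B] [CommRing C]
    [Algebra R C] [Algebra B C] [IsScalarTower R B C] :
    (Sep fun i => ((u i).baseChange B).baseChange C) ↔ SepBC u C := by
  let θ : ∀ (P : Type u) [AddCommGroup P] [Module R P], C ⊗[B] (B ⊗[R] P) ≃ₗ[C] C ⊗[R] P :=
    fun P _ _ => AlgebraTensorModule.cancelBaseChange R B C C P
  have hnat : ∀ i (w : C ⊗[B] (B ⊗[R] M)),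
      (u i).baseChange C (θ M w) = θ (G i) (((u i).baseChange B).baseChange C w) := by
    intro i w
    induction w using TensorProduct.induction_on with
    | zero => simp
    | tmul c x =>
      induction x using TensorProduct.induction_on with
      | zero => simp
      | tmul b m => simp [θ]
      | add x y hx hy => simp only [TensorProduct.tmul_add, map_add, hx, hy]
    | add x y hx hy => simp only [map_add, hx, hy]
  constructor
  · intro h
    exact h.of_equiv (RingEquiv.refl C) _ (θ M).toAddEquiv (fun i => (θ (G i)).toAddEquiv)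
      (fun r m => map_smul (θ M) r m) (fun i r m => map_smul (θ (G i)) r m) hnat
  · intro h
    refine h.of_equiv (RingEquiv.refl C) _ (θ M).symm.toAddEquiv
      (fun i => (θ (G i)).symm.toAddEquiv) (fun r m => map_smul (θ M).symm r m)
      (fun i r m => map_smul (θ (G i)).symm r m) fun i m => (θ (G i)).injective ?_
    show θ (G i) (((u i).baseChange B).baseChange C ((θ M).symm m)) =
      θ (G i) ((θ (G i)).symm ((u i).baseChange C m))
    rw [← hnat, LinearEquiv.apply_symm_apply, LinearEquiv.apply_symm_apply]

section OverBase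

variable {A : Type u} [CommRing A] [Algebra A R]

/-- `(R ⊗ B) ⊗_R P ≃ P ⊗_A B`. -/
noncomputable def theta (A : Type u) [CommRing A] [Algebra A R] (B : Type u) [AddCommGroup B]
    [Module A B] (P : Type u) [AddCommGroup P] [Module R P] [Module A P] [IsScalarTower A R P] :
    (R ⊗[A] B) ⊗[R] P ≃ₗ[R] P ⊗[A] B :=
  (TensorProduct.comm R (R ⊗[A] B) P).trans (AlgebraTensorModule.cancelBaseChange A R R P B)

theorem theta_tmul (B : Type u) [AddCommGroup B] [Module A B] (P : Type u) [AddCommGroup P]
    [Module R P] [Module A P] [IsScalarTower A R P] (r : R) (b : B) (p : P) :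
    theta A B P ((r ⊗ₜ b) ⊗ₜ p) = (r • p) ⊗ₜ b := by simp [theta]

theorem injective_rTensor_map {B B' : Type u} [CommRing B] [Algebra A B] [CommRing B']
    [Algebra A B'] (φ : B →ₐ[A] B') (hφ : Function.Injective φ) (P : Type u) [AddCommGroup P]
    [Module R P] [Module A P] [IsScalarTower A R P] [Module.Flat A P] :
    Function.Injective ((Algebra.TensorProduct.map (AlgHom.id R R) φ).toLinearMap.rTensor P) := by
  have hnat : ∀ w : (R ⊗[A] B) ⊗[R] P,
      theta A B' P ((Algebra.TensorProduct.map (AlgHom.id R R) φ).toLinearMap.rTensor P w) =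
        φ.toLinearMap.lTensor P (theta A B P w) := by
    intro w
    induction w using TensorProduct.induction_on with
    | zero => simp
    | tmul x p =>
      induction x using TensorProduct.induction_on with
      | zero => simp
      | tmul r b => simp [theta]
      | add x y hx hy => simp only [TensorProduct.add_tmul, map_add, hx, hy]
    | add x y hx hy => simp only [map_add, hx, hy]
  intro x y hxy
  refine (theta A B P).injective
    (Module.Flat.lTensor_preserves_injective_linearMap φ.toLinearMap hφ ?_)
  rw [← hnat, ← hnat, hxy]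

/-- Base change to an algebra is controlled by its finitely generated subalgebras. -/
theorem sep_baseChange_of_subalgebras [Module A M] [IsScalarTower A R M] [∀ i, Module A (G i)]
    [∀ i, IsScalarTower A R (G i)] [∀ i, Module.Flat A (G i)] (A' : Type u) [CommRing A']
    [Algebra A A']
    (H : ∀ S : Subalgebra A A', S.FG → SepBC u (R ⊗[A] S)) :
    SepBC u (R ⊗[A] A') := by
  classical
  let φ : ∀ S : Subalgebra A A', R ⊗[A] S →ₐ[R] R ⊗[A] A' := fun S =>
    Algebra.TensorProduct.map (AlgHom.id R R) S.val
  have hmono : ∀ {S T : Subalgebra A A'}, S ≤ T → ∀ w, ∃ w', φ T w' = φ S w := by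
    intro S T hST w
    refine ⟨Algebra.TensorProduct.map (AlgHom.id R R) (Subalgebra.inclusion hST) w, ?_⟩
    induction w using TensorProduct.induction_on with
    | zero => simp
    | tmul r s => simp [φ]
    | add x y hx hy => simp only [map_add, hx, hy]
  have hC : ∀ c : R ⊗[A] A', ∃ S : Subalgebra A A', S.FG ∧ ∃ w, φ S w = c := by
    intro c
    induction c using TensorProduct.induction_on with
    | zero => exact ⟨⊥, Subalgebra.fg_bot, 0, map_zero _⟩
    | tmul r a =>
      exact ⟨Algebra.adjoin A {a}, ⟨{a}, by rw [Finset.coe_singleton]⟩,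
        r ⊗ₜ ⟨a, Algebra.subset_adjoin (Set.mem_singleton a)⟩, by simp [φ]⟩
    | add x y hx hy =>
      obtain ⟨S, hS, w, rfl⟩ := hx
      obtain ⟨T, hT, v, rfl⟩ := hy
      obtain ⟨w', hw'⟩ := hmono (le_sup_left : S ≤ S ⊔ T) w
      obtain ⟨v', hv'⟩ := hmono (le_sup_right : T ≤ S ⊔ T) v
      exact ⟨S ⊔ T, hS.sup hT, w' + v', by rw [map_add, hw', hv']⟩
  have hM : ∀ y : (R ⊗[A] A') ⊗[R] M, ∃ S : Subalgebra A A', S.FG ∧
      ∃ w, (φ S).toLinearMap.rTensor M w = y := by
    intro y
    induction y using TensorProduct.induction_on with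
    | zero => exact ⟨⊥, Subalgebra.fg_bot, 0, map_zero _⟩
    | tmul c m =>
      obtain ⟨S, hS, w, rfl⟩ := hC c
      exact ⟨S, hS, w ⊗ₜ m, rfl⟩
    | add x y hx hy =>
      obtain ⟨S, hS, w, rfl⟩ := hx
      obtain ⟨T, hT, v, rfl⟩ := hy
      refine ⟨S ⊔ T, hS.sup hT,
        (Algebra.TensorProduct.map (AlgHom.id R R)
          (Subalgebra.inclusion le_sup_left)).toLinearMap.rTensor M w +
        (Algebra.TensorProduct.map (AlgHom.id R R)
          (Subalgebra.inclusion le_sup_right)).toLinearMap.rTensor M v, ?_⟩
      rw [map_add, ← LinearMap.rTensor_comp_apply, ← LinearMap.rTensor_comp_apply]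
      refine congrArg₂ (· + ·) (congrArg (fun l => LinearMap.rTensor M l w) ?_)
        (congrArg (fun l => LinearMap.rTensor M l v) ?_)
      all_goals ext; simp [φ]
  refine sep_baseChange_of_exhaust (R ⊗[A] A') fun c y => ?_
  obtain ⟨S, hS, w, rfl⟩ := hC c
  obtain ⟨T, hT, v, rfl⟩ := hM y
  obtain ⟨w', hw'⟩ := hmono (le_sup_left : S ≤ S ⊔ T) w
  refine ⟨R ⊗[A] ↥(S ⊔ T), inferInstance, inferInstance, φ (S ⊔ T), w',
    (Algebra.TensorProduct.map (AlgHom.id R R)
      (Subalgebra.inclusion le_sup_right)).toLinearMap.rTensor M v, hw', ?_,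
    fun i => injective_rTensor_map (S ⊔ T).val Subtype.val_injective (G i), H _ (hS.sup hT)⟩
  rw [← LinearMap.rTensor_comp_apply]
  refine congrArg (fun l => LinearMap.rTensor M l v) ?_
  ext
  simp [φ]

end OverBase

section Field

variable {k : Type u} [Field k] [Algebra k R]

/-- Over a field every base change preserves separation. -/
theorem Sep.baseChange_of_field (hu : Sep u) (A' : Type u) [CommRing A'] [Algebra k A'] :
    SepBC u (R ⊗[k] A') := by
  letI : Module k M := Module.compHom M (algebraMap k R)
  haveI : IsScalarTower k R M := .of_algebraMap_smul fun _ _ => rfl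
  letI : ∀ i, Module k (G i) := fun i => Module.compHom (G i) (algebraMap k R)
  haveI : ∀ i, IsScalarTower k R (G i) := fun i => .of_algebraMap_smul fun _ _ => rfl
  refine sep_baseChange_of_subalgebras A' fun S hS => ?_
  haveI : Algebra.FiniteType k S := (Subalgebra.fg_iff_finiteType _).1 hS
  haveI : Algebra.FinitePresentation k S := Algebra.FinitePresentation.of_finiteType.1 ‹_›
  exact hu.baseChange_of_flat_fp (R ⊗[k] S)

end Field

end Groth.Agent.SepLib
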