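import Mathlib
import Groth.Agent.SepLib.Field

/-!
Separating families: lifting from a quotient by a nilpotent ideal with free graded pieces, and from
the fibres over the base.
-/

set_option autoImplicit false
set_option linter.style.haveILetI false
set_option backward.isDefEq.respectTransparency false

universe u

open TensorProduct

namespace Groth.Agent.SepLib

variable {A R : Type u} [CommRing A] [CommRing R] [Algebra A R]
  {M : Type u} [AddCommGroup M] [Module R M] [Module A M] [IsScalarTower A R M] {ι : Type u}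
  {G : ι → Type u} [∀ i, AddCommGroup (G i)] [∀ i, Module R (G i)] [∀ i, Module A (G i)]
  [∀ i, IsScalarTower A R (G i)] {u : ∀ i, M →ₗ[R] G i}

theorem elementwise_of_sepBC {Q : Type u} [CommRing Q] [Algebra A Q]
    (H : SepBC u (R ⊗[A] Q)) (a : R) (m : M)
    (hm : ∀ i, ∃ n : ℕ, (a ^ n • u i m) ⊗ₜ[A] (1 : Q) = 0) :
    ∃ n : ℕ, (a ^ n • m) ⊗ₜ[A] (1 : Q) = 0 := by
  have key : ∀ (P : Type u) [AddCommGroup P] [Module R P] [Module A P] [IsScalarTower A R P]
      (n : ℕ) (p : P),
      theta A Q P ((a ⊗ₜ[A] (1 : Q)) ^ n • ((1 : R ⊗[A] Q) ⊗ₜ[R] p)) =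
        (a ^ n • p) ⊗ₜ[A] (1 : Q) := by
    intro P _ _ _ _ n p
    rw [Algebra.TensorProduct.tmul_pow, one_pow, TensorProduct.smul_tmul', smul_eq_mul, mul_one,
      theta_tmul]
  obtain ⟨n, hn⟩ := H (a ⊗ₜ 1) (1 ⊗ₜ m) fun i => by
    obtain ⟨n, hn⟩ := hm i
    refine ⟨n, (theta A Q (G i)).injective ?_⟩
    rw [LinearMap.baseChange_tmul, key, hn, map_zero]
  refine ⟨n, ?_⟩
  rw [← key, hn, map_zero]

omit [Algebra A R] [Module R M] [IsScalarTower A R M] in
theorem tmul_one_quotient_eq_zero_iff (J : Ideal A) (m : M) :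
    m ⊗ₜ[A] (1 : A ⧸ J) = 0 ↔ m ∈ J • (⊤ : Submodule A M) := by
  rw [← (TensorProduct.tensorQuotEquivQuotSMul M J).map_eq_zero_iff,
    ← Submodule.Quotient.mk_eq_zero (J • (⊤ : Submodule A M)),
    show (1 : A ⧸ J) = Ideal.Quotient.mk J 1 from rfl,
    TensorProduct.tensorQuotEquivQuotSMul_tmul_mk, one_smul]

/-- For flat `G` and an ideal `I`, a relation in `I • G` can be evaluated by any functional on
`I`. -/
theorem sum_tmul_eq_zero {P : Type u} [AddCommGroup P] [Module A P] [Module.Flat A P]
    (I : Ideal A) {Q : Type u} [AddCommGroup Q] [Module A Q] (ν : I →ₗ[A] Q) {s : Type*}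
    [Fintype s] (c : s → I) (g : s → P) (h : ∑ j, (c j : A) • g j = 0) :
    ∑ j, g j ⊗ₜ[A] ν (c j) = 0 := by
  have h0 : (∑ j, g j ⊗ₜ[A] c j) = 0 := by
    refine Module.Flat.lTensor_preserves_injective_linearMap (M := P) I.subtype
      Subtype.val_injective ?_
    rw [map_zero, map_sum]
    refine (TensorProduct.rid A P).injective ?_
    rw [map_zero, map_sum]
    simpa using h
  have := congrArg (ν.lTensor P) h0
  simpa [map_sum] using this

theorem exists_sum_of_mem_ideal_smul {I : Ideal A} {m : M} (hm : m ∈ I • (⊤ : Submodule A M)) :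
    ∃ (s : ℕ) (c : Fin s → I) (x : Fin s → M), ∑ j, (c j : A) • x j = m := by
  induction hm using Submodule.smul_induction_on' with
  | smul r hr n _ => exact ⟨1, fun _ => ⟨r, hr⟩, fun _ => n, by simp⟩
  | add x _ y _ hx hy =>
    obtain ⟨s, c, v, rfl⟩ := hx
    obtain ⟨t, d, w, rfl⟩ := hy
    exact ⟨s + t, Fin.append c d, Fin.append v w, by simp [Fin.sum_univ_add]⟩

theorem smul_mem_ideal_smul {I : Ideal A} {m : M} (r : R) (hm : m ∈ I • (⊤ : Submodule A M)) :
    r • m ∈ I • (⊤ : Submodule A M) := by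
  induction hm using Submodule.smul_induction_on' with
  | smul c hc n _ =>
    rw [smul_comm]
    exact Submodule.smul_mem_smul hc Submodule.mem_top
  | add x _ y _ hx hy => rw [smul_add]; exact add_mem hx hy

/-- Separation lifts along a nilpotent ideal with free graded pieces when the targets are flat. -/
theorem sep_of_quotient_of_nilpotent [∀ i, Module.Flat A (G i)] (J : Ideal A) (hJ : IsNilpotent J)
    (hfree : ∀ k : ℕ, Module.Free (A ⧸ J) ((A ⧸ J) ⊗[A] ↥(J ^ k)))
    (H : SepBC u (R ⊗[A] (A ⧸ J))) : Sep u := by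
  classical
  intro a m hm
  suffices key : ∀ k : ℕ, ∃ n : ℕ, a ^ n • m ∈ J ^ k • (⊤ : Submodule A M) by
    obtain ⟨N, hN⟩ := hJ
    obtain ⟨n, hn⟩ := key N
    exact ⟨n, by simpa [hN] using hn⟩
  intro k
  induction k with
  | zero => exact ⟨0, by simp⟩
  | succ k ih =>
    obtain ⟨n, hn⟩ := ih
    obtain ⟨s, c, x, hcx⟩ := exists_sum_of_mem_ideal_smul hn
    haveI := hfree k
    let b := Module.Free.chooseBasis (A ⧸ J) ((A ⧸ J) ⊗[A] ↥(J ^ k))
    let ν : ∀ _ : Module.Free.ChooseBasisIndex (A ⧸ J) ((A ⧸ J) ⊗[A] ↥(J ^ k)),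
        ↥(J ^ k) →ₗ[A] A ⧸ J := fun l =>
      ((b.coord l).restrictScalars A).comp (TensorProduct.mk A (A ⧸ J) ↥(J ^ k) 1)
    choose d hd using fun (j : Fin s) (l) => Ideal.Quotient.mk_surjective (ν l (c j))
    have he : ∀ l, ∃ e : ↥(J ^ k), (1 : A ⧸ J) ⊗ₜ[A] e = b l := fun l => by
      obtain ⟨z, hz⟩ := TensorProduct.mk_surjective A (↥(J ^ k)) (A ⧸ J)
        Ideal.Quotient.mk_surjective (b l)
      exact ⟨z, hz⟩
    choose e he using he
    let T : Finset (Module.Free.ChooseBasisIndex (A ⧸ J) ((A ⧸ J) ⊗[A] ↥(J ^ k))) :=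
      Finset.univ.biUnion fun j => (b.repr ((1 : A ⧸ J) ⊗ₜ[A] c j)).support
    have hres : ∀ j, ((c j : A) - ∑ l ∈ T, d j l * (e l : A)) ∈ J ^ (k + 1) := by
      intro j
      have h0 : (1 : A ⧸ J) ⊗ₜ[A] (c j - ∑ l ∈ T, d j l • e l) = 0 := by
        rw [TensorProduct.tmul_sub, TensorProduct.tmul_sum, sub_eq_zero]
        refine (b.linearCombination_repr _).symm.trans ?_
        rw [Finsupp.linearCombination_apply, Finsupp.sum_of_support_subset _
          (Finset.subset_biUnion_of_mem (fun j => (b.repr ((1 : A ⧸ J) ⊗ₜ[A] c j)).support)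
            (Finset.mem_univ j)) (fun l q => q • b l) (fun l _ => zero_smul _ _)]
        refine Finset.sum_congr rfl fun l _ => ?_
        rw [TensorProduct.tmul_smul, he, ← algebraMap_smul (A ⧸ J) (d j l) (b l)]
        exact congrArg (· • b l) (hd j l).symm
      have h1 := congrArg (TensorProduct.quotTensorEquivQuotSMul (↥(J ^ k)) J) h0
      rw [map_zero, show (1 : A ⧸ J) = Ideal.Quotient.mk J 1 from rfl,
        TensorProduct.quotTensorEquivQuotSMul_mk_tmul, one_smul] at h1
      have h2 : c j - ∑ l ∈ T, d j l • e l ∈ J • (⊤ : Submodule A ↥(J ^ k)) :=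
        (Submodule.Quotient.mk_eq_zero _).1 h1
      have h3 := Submodule.mem_map_of_mem (f := (J ^ k).subtype) h2
      rw [Submodule.map_smul'', Submodule.map_top, Submodule.range_subtype] at h3
      rw [pow_succ']
      simpa using h3
    have hy : ∀ l, ∃ n' : ℕ, a ^ n' • (∑ j, d j l • x j) ∈ J • (⊤ : Submodule A M) := by
      intro l
      obtain ⟨n', hn'⟩ := elementwise_of_sepBC H a (∑ j, d j l • x j) fun i => by
        obtain ⟨n', hn'⟩ := hm i
        refine ⟨n', ?_⟩
        have h0 : ∑ j, (c j : A) • (a ^ n' • u i (x j)) = 0 := by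
          simp_rw [← LinearMap.map_smul_of_tower, ← map_sum, smul_comm _ (a ^ n'),
            ← Finset.smul_sum, hcx, map_smul, smul_comm (a ^ n') (a ^ n), hn', smul_zero]
        have h4 := sum_tmul_eq_zero (J ^ k) (ν l) c _ h0
        rw [map_sum, Finset.smul_sum, TensorProduct.sum_tmul]
        refine Eq.trans (Finset.sum_congr rfl fun j _ => ?_) h4
        rw [LinearMap.map_smul_of_tower, smul_comm (a ^ n'), TensorProduct.smul_tmul, ← hd j l,
          Algebra.smul_def, mul_one]
        rfl
      exact ⟨n', (tmul_one_quotient_eq_zero_iff J _).1 hn'⟩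
    choose n' hn' using hy
    refine ⟨T.sup n' + n, ?_⟩
    rw [pow_add a, mul_smul, ← hcx]
    have hsplit : ∑ j, (c j : A) • x j =
        ∑ l ∈ T, (e l : A) • (∑ j, d j l • x j) +
          ∑ j, ((c j : A) - ∑ l ∈ T, d j l * (e l : A)) • x j := by
      simp only [sub_smul, Finset.sum_smul, Finset.smul_sum, Finset.sum_sub_distrib, mul_smul,
        smul_comm (d _ _) ((e _ : ↥(J ^ k)) : A)]
      rw [Finset.sum_comm]
      abel
    rw [hsplit, smul_add, Finset.smul_sum]
    refine add_mem (Submodule.sum_mem _ fun l hl => ?_)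
      (smul_mem_ideal_smul _ (Submodule.sum_mem _ fun j _ =>
        Submodule.smul_mem_smul (hres j) Submodule.mem_top))
    obtain ⟨q, hq⟩ := Nat.le.dest (Finset.le_sup (f := n') hl)
    rw [smul_comm, ← hq, add_comm (n' l) q, pow_add a, mul_smul, pow_succ J k, Submodule.mul_smul]
    exact Submodule.smul_mem_smul (e l).2 (smul_mem_ideal_smul _ (hn' l))

theorem tmul_one_residueField_eq_zero_iff (p : Ideal A) [p.IsPrime] (m : M) :
    m ⊗ₜ[A] (1 : p.ResidueField) = 0 ↔
      ∃ s ∉ p, s • m ∈ p • (⊤ : Submodule A M) := by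
  let θ : p.ResidueField ⊗[A ⧸ p] ((A ⧸ p) ⊗[A] M) ≃ₗ[p.ResidueField] p.ResidueField ⊗[A] M :=
    AlgebraTensorModule.cancelBaseChange A (A ⧸ p) p.ResidueField p.ResidueField M
  have h1 : m ⊗ₜ[A] (1 : p.ResidueField) = 0 ↔
      (1 : p.ResidueField) ⊗ₜ[A ⧸ p] ((1 : A ⧸ p) ⊗ₜ[A] m) = 0 := by
    rw [← (TensorProduct.comm A M p.ResidueField).map_eq_zero_iff, ← θ.map_eq_zero_iff]
    simp [θ]
  have h2 : (1 : p.ResidueField) ⊗ₜ[A ⧸ p] ((1 : A ⧸ p) ⊗ₜ[A] m) = 0 ↔
      ∃ t : nonZeroDivisors (A ⧸ p), (t : A ⧸ p) • ((1 : A ⧸ p) ⊗ₜ[A] m) = 0 := by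
    rw [← TensorProduct.mk_apply, IsLocalizedModule.eq_zero_iff (nonZeroDivisors (A ⧸ p))]
    rfl
  rw [h1, h2]
  constructor
  · rintro ⟨⟨t, ht⟩, htm⟩
    obtain ⟨t, rfl⟩ := Ideal.Quotient.mk_surjective t
    refine ⟨t, fun h => nonZeroDivisors.ne_zero ht (Ideal.Quotient.eq_zero_iff_mem.2 h), ?_⟩
    rw [← tmul_one_quotient_eq_zero_iff, ← (TensorProduct.comm A M (A ⧸ p)).map_eq_zero_iff,
      TensorProduct.comm_tmul, TensorProduct.tmul_smul, ← algebraMap_smul (A ⧸ p) t]
    exact htm
  · rintro ⟨s, hs, hsm⟩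
    refine ⟨⟨Ideal.Quotient.mk p s, mem_nonZeroDivisors_of_ne_zero fun h =>
      hs (Ideal.Quotient.eq_zero_iff_mem.1 h)⟩, ?_⟩
    rw [← tmul_one_quotient_eq_zero_iff, ← (TensorProduct.comm A M (A ⧸ p)).map_eq_zero_iff,
      TensorProduct.comm_tmul, TensorProduct.tmul_smul, ← algebraMap_smul (A ⧸ p) s] at hsm
    exact hsm

/-- Separation can be checked on the fibres over the base when the targets are flat. -/
theorem sep_of_fibres [IsNoetherianRing R] [Module.Finite R M] [∀ i, Module.Flat A (G i)]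
    (H : ∀ (p : Ideal A) [p.IsPrime], SepBC u (R ⊗[A] p.ResidueField)) : Sep u := by
  classical
  intro a m hm
  -- `m` is killed outside every prime avoiding `a`
  suffices key : ∀ P : Ideal R, P.IsPrime → a ∉ P → ∃ s ∉ P, s • m = 0 by
    have : a ∈ Ideal.radical (LinearMap.ker (LinearMap.toSpanSingleton R M m)) := by
      rw [Ideal.radical_eq_sInf, Submodule.mem_sInf]
      rintro P ⟨hle, hP⟩
      by_contra haP
      obtain ⟨s, hsP, hsm⟩ := key P hP haP
      exact hsP (hle hsm)
    exact this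
  intro P hP haP
  let p : Ideal A := P.comap (algebraMap A R)
  have step : ∀ k : ℕ, ∃ s ∉ P, s • m ∈ p ^ k • (⊤ : Submodule A M) := by
    intro k
    induction k with
    | zero => exact ⟨1, fun h => hP.ne_top ((Ideal.eq_top_iff_one _).2 h), by simp⟩
    | succ k ih =>
      obtain ⟨s, hsP, hs⟩ := ih
      obtain ⟨r, c, x, hcx⟩ := exists_sum_of_mem_ideal_smul hs
      let V := p.ResidueField ⊗[A] ↥(p ^ k)
      have hspan : ⊤ ≤ Submodule.span p.ResidueField
          (Set.range fun z : ↥(p ^ k) => (1 : p.ResidueField) ⊗ₜ[A] z) := by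
        intro v hv₀
        clear hv₀
        induction v using TensorProduct.induction_on with
        | zero => exact zero_mem _
        | tmul q z =>
          rw [show q ⊗ₜ[A] z = q • ((1 : p.ResidueField) ⊗ₜ[A] z) by
            rw [TensorProduct.smul_tmul', smul_eq_mul, mul_one]]
          exact Submodule.smul_mem _ _ (Submodule.subset_span ⟨z, rfl⟩)
        | add v w hv hw => exact add_mem hv hw
      let b := Module.Basis.ofSpan hspan
      have he : ∀ l, ∃ e : ↥(p ^ k), (1 : p.ResidueField) ⊗ₜ[A] e = b l := fun l => by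
        rw [Module.Basis.ofSpan_apply_self]
        exact Module.Basis.ofSpan_subset hspan (by rw [Module.Basis.coe_ofSpan]; exact ⟨l, rfl⟩)
      choose e he using he
      let T := Finset.univ.biUnion fun j => (b.repr ((1 : p.ResidueField) ⊗ₜ[A] c j)).support
      let ν : _ → ↥(p ^ k) →ₗ[A] p.ResidueField := fun l =>
        ((b.coord l).restrictScalars A).comp (TensorProduct.mk A p.ResidueField ↥(p ^ k) 1)
      -- common denominator for the coordinates
      obtain ⟨⟨t, ht⟩, hT⟩ := IsLocalization.exist_integer_multiples_of_finset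
        (nonZeroDivisors (A ⧸ p))
        ((Finset.univ ×ˢ T).image fun jl => ν jl.2 (c jl.1))
      obtain ⟨t, rfl⟩ := Ideal.Quotient.mk_surjective t
      have htp : t ∉ p := fun h =>
        nonZeroDivisors.ne_zero ht (Ideal.Quotient.eq_zero_iff_mem.2 h)
      have hd : ∀ j l, ∃ d : A, l ∈ T → algebraMap A p.ResidueField d =
          algebraMap A p.ResidueField t * ν l (c j) := by
        intro j l
        by_cases hl : l ∈ T
        · obtain ⟨d, hd⟩ := hT _ (Finset.mem_image.2 ⟨(j, l),
            Finset.mem_product.2 ⟨Finset.mem_univ j, hl⟩, rfl⟩)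
          obtain ⟨d, rfl⟩ := Ideal.Quotient.mk_surjective d
          refine ⟨d, fun _ => ?_⟩
          rw [Algebra.smul_def] at hd
          exact hd
        · exact ⟨0, fun h => absurd h hl⟩
      choose d hd using hd
      -- the residual coefficients
      have hres : ∀ j, ∃ σ ∉ p, σ * (t * (c j : A) - ∑ l ∈ T, d j l * (e l : A)) ∈ p ^ (k + 1) := by
        intro j
        have h0 : (t • c j - ∑ l ∈ T, d j l • e l) ⊗ₜ[A] (1 : p.ResidueField) = 0 := by
          refine (TensorProduct.comm A _ _).map_eq_zero_iff.1 ?_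
          rw [TensorProduct.comm_tmul, TensorProduct.tmul_sub, TensorProduct.tmul_sum, sub_eq_zero,
            TensorProduct.tmul_smul, ← b.linearCombination_repr ((1 : p.ResidueField) ⊗ₜ[A] c j),
            Finsupp.linearCombination_apply, Finsupp.sum_of_support_subset _
              (Finset.subset_biUnion_of_mem
                (fun j => (b.repr ((1 : p.ResidueField) ⊗ₜ[A] c j)).support) (Finset.mem_univ j))
              (fun l q => q • b l) (fun l _ => zero_smul _ _), Finset.smul_sum]
          refine Finset.sum_congr rfl fun l hl => ?_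
          rw [TensorProduct.tmul_smul, he, ← algebraMap_smul p.ResidueField (d j l) (b l), hd j l hl,
            mul_smul, algebraMap_smul]
          rfl
        obtain ⟨σ, hσ, h⟩ := (tmul_one_residueField_eq_zero_iff p _).1 h0
        have h3 := Submodule.mem_map_of_mem (f := (p ^ k).subtype) h
        rw [Submodule.map_smul'', Submodule.map_top, Submodule.range_subtype] at h3
        refine ⟨σ, hσ, ?_⟩
        rw [pow_succ']
        simpa using h3
      choose σ hσ hσc using hres
      have hy : ∀ l, ∃ τ : R, τ ∉ P ∧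
          (l ∈ T → τ • (∑ j, d j l • x j) ∈ p • (⊤ : Submodule A M)) := by
        intro l
        by_cases hl : l ∈ T
        swap
        · exact ⟨1, fun h => hP.ne_top ((Ideal.eq_top_iff_one _).2 h), fun h => absurd h hl⟩
        obtain ⟨n, hn⟩ := elementwise_of_sepBC (H p) a (∑ j, d j l • x j) fun i => by
          obtain ⟨n, hn⟩ := hm i
          refine ⟨n, ?_⟩
          have h0 : ∑ j, (c j : A) • (a ^ n • u i (x j)) = 0 := by
            simp_rw [← LinearMap.map_smul_of_tower, ← map_sum, smul_comm _ (a ^ n),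
              ← Finset.smul_sum, hcx, map_smul, smul_comm (a ^ n) s, hn, smul_zero]
          have h4 := sum_tmul_eq_zero (p ^ k) (t • ν l) c _ h0
          rw [map_sum, Finset.smul_sum, TensorProduct.sum_tmul]
          refine Eq.trans (Finset.sum_congr rfl fun j _ => ?_) h4
          rw [LinearMap.map_smul_of_tower, smul_comm (a ^ n), TensorProduct.smul_tmul,
            LinearMap.smul_apply, Algebra.smul_def, mul_one, hd j l hl, ← Algebra.smul_def]
        obtain ⟨τ, hτ, h⟩ := (tmul_one_residueField_eq_zero_iff p _).1 hn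
        refine ⟨algebraMap A R τ * a ^ n, hP.mul_notMem hτ fun h => haP (hP.mem_of_pow_mem n h),
          fun _ => ?_⟩
        rwa [mul_smul, algebraMap_smul]
      choose τ hτ hτx using hy
      refine ⟨(∏ l ∈ T, τ l) * algebraMap A R ((∏ j, σ j) * t) * s,
        hP.mul_notMem (hP.mul_notMem
          (Submonoid.prod_mem P.primeCompl fun l _ => (hτ l : τ l ∈ P.primeCompl))
          (show (∏ j, σ j) * t ∉ p from Ideal.IsPrime.mul_notMem inferInstance
            (Submonoid.prod_mem p.primeCompl fun j _ => (hσ j : σ j ∈ p.primeCompl)) htp)) hsP, ?_⟩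
      rw [mul_smul, mul_smul, algebraMap_smul, ← hcx]
      have hsplit : ((∏ j, σ j) * t) • ∑ j, (c j : A) • x j =
          ∑ l ∈ T, ((e l : A) * ∏ j, σ j) • (∑ j, d j l • x j) +
            ∑ j, ((∏ j, σ j) * (t * (c j : A) - ∑ l ∈ T, d j l * (e l : A))) • x j := by
        simp only [Finset.smul_sum, ← mul_smul, mul_sub, sub_smul, Finset.mul_sum, Finset.sum_smul,
          Finset.sum_sub_distrib]
        rw [Finset.sum_comm (s := T)]
        simp only [mul_assoc, mul_comm, mul_left_comm]
        abel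
      rw [hsplit, smul_add, Finset.smul_sum]
      refine add_mem (Submodule.sum_mem _ fun l hl => ?_)
        (smul_mem_ideal_smul _ (Submodule.sum_mem _ fun j _ => ?_))
      · rw [smul_comm, pow_succ, Submodule.mul_smul]
        refine Submodule.smul_mem_smul ((p ^ k).mul_mem_right _ (e l).2) ?_
        rw [← Finset.prod_erase_mul T τ hl, mul_smul]
        exact smul_mem_ideal_smul _ (hτx l hl)
      · refine Submodule.smul_mem_smul ?_ Submodule.mem_top
        rw [← Finset.prod_erase_mul _ σ (Finset.mem_univ j), mul_assoc]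
        exact Ideal.mul_mem_left _ _ (hσc j)
  -- Krull intersection at `P`
  let RP := Localization.AtPrime P
  let f := LocalizedModule.mkLinearMap P.primeCompl M
  have hk : ∀ k : ℕ, f m ∈ (p.map (algebraMap A RP)) ^ k •
      (⊤ : Submodule RP (LocalizedModule P.primeCompl M)) := by
    intro k
    obtain ⟨s, hsP, hs⟩ := step k
    have h1 : ∀ z ∈ p ^ k • (⊤ : Submodule A M), f z ∈ (p.map (algebraMap A RP)) ^ k •
        (⊤ : Submodule RP (LocalizedModule P.primeCompl M)) := by
      intro z hz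
      induction hz using Submodule.smul_induction_on' with
      | smul c hc n _ =>
        rw [← algebraMap_smul R c n, map_smul, ← algebraMap_smul RP (algebraMap A R c) (f n),
          ← IsScalarTower.algebraMap_apply, ← Ideal.map_pow]
        exact Submodule.smul_mem_smul (Ideal.mem_map_of_mem _ hc) Submodule.mem_top
      | add x _ y _ hx hy => rw [map_add]; exact add_mem hx hy
    have h2 := h1 _ hs
    rw [map_smul, ← algebraMap_smul RP s (f m)] at h2
    exact (Submodule.smul_mem_iff_of_isUnit _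
      (IsLocalization.map_units RP (⟨s, hsP⟩ : P.primeCompl))).1 h2
  have hne : p.map (algebraMap A RP) ≠ ⊤ := by
    refine ne_top_of_le_ne_top (IsLocalRing.maximalIdeal.isMaximal RP).ne_top ?_
    rw [← Localization.AtPrime.map_eq_maximalIdeal, IsScalarTower.algebraMap_eq A R RP,
      ← Ideal.map_map]
    exact Ideal.map_mono Ideal.map_comap_le
  haveI : Module.Finite RP (LocalizedModule P.primeCompl M) :=
    Module.Finite.of_isLocalizedModule P.primeCompl f
  haveI : IsNoetherianRing RP := IsLocalization.isNoetherianRing P.primeCompl RP inferInstance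
  have h0 : f m ∈ (⊥ : Submodule RP (LocalizedModule P.primeCompl M)) := by
    rw [← Ideal.iInf_pow_smul_eq_bot_of_isLocalRing (p.map (algebraMap A RP)) hne]
    exact (Submodule.mem_iInf _).2 hk
  obtain ⟨⟨s, hs⟩, hsm⟩ :=
    (IsLocalizedModule.eq_zero_iff P.primeCompl f).1 ((Submodule.mem_bot RP).1 h0)
  exact ⟨s, hs, hsm⟩

end Groth.Agent.SepLib
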