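import Mathlib
import Groth.Agent.RGFlatLib.Fibre
import Groth.Agent.SepLib.Fibre

/-!
Sections of a flat module of finite presentation vanishing on an open set which is dense in every
fibre.
-/

set_option autoImplicit false
set_option linter.style.haveILetI false
set_option backward.isDefEq.respectTransparency false

universe u

open TensorProduct

namespace Groth.Agent.SepLib

variable {A R M : Type u} [CommRing A] [CommRing R] [Algebra A R] [AddCommGroup M] [Module R M]
  [Module A M] [IsScalarTower A R M]

theorem tmul_residueField_eq_zero_iff (p : Ideal A) [p.IsPrime] (x : M) :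
    ((1 : R ⊗[A] p.ResidueField) ⊗ₜ[R] x = 0) ↔
      ∃ e ∉ p, e • x ∈ p.map (algebraMap A R) • (⊤ : Submodule R M) := by
  rw [← (theta (R := R) A p.ResidueField M).map_eq_zero_iff, Algebra.TensorProduct.one_def,
    theta_tmul, one_smul, tmul_one_residueField_eq_zero_iff]
  refine exists_congr fun e => and_congr_right fun _ => ?_
  rw [← Submodule.restrictScalars_mem A (p.map (algebraMap A R) • (⊤ : Submodule R M)),
    Ideal.smul_restrictScalars, Submodule.restrictScalars_top]

theorem flat_localizedModule [Module.Flat A M] (S : Submonoid R) :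
    Module.Flat A (LocalizedModule S M) := by
  let g := LocalizedModule.mkLinearMap S M
  rw [Module.Flat.iff_lTensor_injective']
  intro I
  have h0 : Function.Injective (AlgebraTensorModule.lTensor R M I.subtype) :=
    Module.Flat.lTensor_preserves_injective_linearMap I.subtype Subtype.val_injective
  have h1 := IsLocalizedModule.map_injective S
    (AlgebraTensorModule.rTensor A I g) (AlgebraTensorModule.rTensor A A g)
    (AlgebraTensorModule.lTensor R M I.subtype) h0
  simpa [IsLocalizedModule.map_lTensor] using h1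

/-- A section vanishing on a family of basic opens which is schematically dense in every fibre
vanishes. -/
theorem exists_pow_smul_eq_zero_of_fibres [Algebra.FinitePresentation A R]
    [Module.FinitePresentation R M] [Module.Flat A M] {α : Type*} (g : α → R) (a : R) (m : M)
    (hm : ∀ i, ∃ n : ℕ, (a * g i) ^ n • m = 0)
    (H : ∀ (p : Ideal A) [p.IsPrime] (y : (R ⊗[A] p.ResidueField) ⊗[R] M),
      (∀ i, ∃ n : ℕ, g i ^ n • y = 0) → y = 0) :
    ∃ n : ℕ, a ^ n • m = 0 := by
  classical
  let J : Ideal R := (Submodule.span R {m}).annihilator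
  have hJ : ∀ r, r ∈ J ↔ r • m = 0 := fun r => Submodule.mem_annihilator_span_singleton m r
  suffices a ∈ J.radical by
    obtain ⟨n, hn⟩ := this
    exact ⟨n, (hJ _).1 hn⟩
  by_contra hcon
  rw [Ideal.radical_eq_sInf, Ideal.mem_sInf] at hcon
  push Not at hcon
  obtain ⟨q₀, ⟨hJq₀, hq₀⟩, haq₀⟩ := hcon
  haveI := hq₀
  obtain ⟨q, hqm, hqle⟩ := Ideal.exists_minimalPrimes_le hJq₀
  haveI : q.IsPrime := hqm.1.1
  have haq : a ∉ q := fun h => haq₀ (hqle h)
  have hgq : ∀ i, g i ∈ q := by
    intro i
    obtain ⟨n, hn⟩ := hm i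
    exact (Ideal.IsPrime.mem_or_mem inferInstance
      (Ideal.IsPrime.mem_of_pow_mem inferInstance n (hqm.1.2 ((hJ _).2 hn)))).resolve_left haq
  let p : Ideal A := q.comap (algebraMap A R)
  let Rκ := R ⊗[A] p.ResidueField
  let F := Rκ ⊗[R] M
  haveI : IsNoetherianRing Rκ :=
    haveI : Algebra.FiniteType p.ResidueField (p.ResidueField ⊗[A] R) := inferInstance
    haveI := Algebra.FiniteType.isNoetherianRing p.ResidueField (p.ResidueField ⊗[A] R)
    isNoetherianRing_of_ringEquiv _ (Algebra.TensorProduct.comm A p.ResidueField R).toRingEquiv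
  have hfin := associatedPrimes.finite Rκ F
  -- an element of `q` outside all associated primes of the fibre
  obtain ⟨s, hsq, hs⟩ : ∃ s ∈ q, ∀ P ∈ associatedPrimes Rκ F, algebraMap R Rκ s ∉ P := by
    by_contra hne
    push Not at hne
    have hsub : (q : Set R) ⊆
        ⋃ P ∈ (↑hfin.toFinset : Set (Ideal Rκ)), (P.comap (algebraMap R Rκ) : Set R) := by
      intro x hx
      obtain ⟨P, hP, hxP⟩ := hne x hx
      exact Set.mem_biUnion (hfin.mem_toFinset.2 hP) hxP
    obtain ⟨P, hP, hle⟩ := (Ideal.subset_union_prime ⊥ ⊥ fun P hP _ _ => by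
      haveI := (hfin.mem_toFinset.1 hP).isPrime
      exact Ideal.comap_isPrime _ _).1 hsub
    have hP' := hfin.mem_toFinset.1 hP
    haveI := hP'.isPrime
    obtain ⟨y, hy⟩ := (isAssociatedPrime_iff.1 hP').2
    have hy0 : y = 0 := H p y fun i => by
      refine ⟨1, ?_⟩
      have h1 : algebraMap R Rκ (g i) ∈ P := hle (hgq i)
      rw [hy, Submodule.mem_colon_singleton, Submodule.mem_bot, algebraMap_smul] at h1
      rwa [pow_one]
    apply hP'.isPrime.ne_top
    rw [hy, hy0, Ideal.eq_top_iff_one, Submodule.mem_colon_singleton, smul_zero]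
    exact zero_mem _
  have hreg : ∀ y : F, algebraMap R Rκ s • y = 0 → y = 0 := by
    intro y hy
    by_contra hy0
    have : algebraMap R Rκ s ∈ ⋃ P ∈ associatedPrimes Rκ F, (P : Set Rκ) := by
      rw [biUnion_associatedPrimes_eq_zero_divisors]
      exact ⟨y, hy0, hy⟩
    obtain ⟨P, hP, hsP⟩ := Set.mem_iUnion₂.1 this
    exact hs P hP hsP
  haveI : Module.Flat A (LocalizedModule q.primeCompl M) := flat_localizedModule _
  have hkill : ∀ v : M, s • v = 0 → ∃ d ∉ q, d • v = 0 := by
    refine fun v hv => RGFlatLib.exists_smul_eq_zero_of_regular_fibre q p rfl s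
      (fun x c hc hx => ?_) hv
    have h0 : (1 : Rκ) ⊗ₜ[R] (c • s • x) = 0 :=
      (tmul_residueField_eq_zero_iff p _).2
        ⟨1, fun h => (Ideal.IsPrime.ne_top inferInstance) ((Ideal.eq_top_iff_one p).2 h),
          by rwa [one_smul]⟩
    have h1 : (1 : Rκ) ⊗ₜ[R] (c • x) = 0 := hreg _ (by
      rw [algebraMap_smul, ← TensorProduct.tmul_smul, smul_comm]
      exact h0)
    obtain ⟨e, he, hex⟩ := (tmul_residueField_eq_zero_iff p _).1 h1
    exact ⟨algebraMap A R e * c, Ideal.IsPrime.mul_notMem inferInstance he hc,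
      by rwa [mul_smul, algebraMap_smul]⟩
  -- a power of `s` kills `m` near `q`
  have hspow : ∃ n : ℕ, ∃ d ∉ q, d • s ^ n • m = 0 := by
    let L := Localization.AtPrime q
    have hrad : (J.map (algebraMap R L)).radical = IsLocalRing.maximalIdeal L :=
      (IsLocalization.AtPrime.radical_map_of_mem_minimalPrimes L q J hqm).trans
        (IsLocalization.AtPrime.map_eq_maximalIdeal q L)
    obtain ⟨n, hn⟩ : algebraMap R L s ∈ (J.map (algebraMap R L)).radical := by
      rw [hrad]
      exact (IsLocalization.AtPrime.to_map_mem_maximal_iff L q s).2 hsq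
    rw [← map_pow, IsLocalization.algebraMap_mem_map_algebraMap_iff q.primeCompl L] at hn
    obtain ⟨d, hd, hn⟩ := hn
    exact ⟨n, d, hd, by rw [← mul_smul]; exact (hJ _).1 hn⟩
  obtain ⟨n, d, hd, hn⟩ := hspow
  induction n generalizing d with
  | zero => exact hd (hqm.1.2 ((hJ d).2 (by simpa using hn)))
  | succ n ih =>
    obtain ⟨d', hd', h'⟩ := hkill (d • s ^ n • m) (by
      rwa [smul_comm, ← mul_smul s, ← pow_succ'])
    exact ih (d' * d) (Ideal.IsPrime.mul_notMem inferInstance hd' hd) (by rw [mul_smul]; exact h')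

end Groth.Agent.SepLib
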