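import Mathlib
import Groth.Agent.SepLib.Fibre

/-!
A family separating on every fibre over the base is universally separating, in the Noetherian case.
-/

set_option autoImplicit false
set_option linter.style.haveILetI false
set_option backward.isDefEq.respectTransparency false

universe u

open TensorProduct

namespace Groth.Agent.SepLib

variable {A R : Type u} [CommRing A] [CommRing R] [Algebra A R]
  {M : Type u} [AddCommGroup M] [Module R M] [Module A M] [IsScalarTower A R M] {ι : Type u}
  {G : ι → Type u} [∀ i, AddCommGroup (G i)] [∀ i, Module R (G i)] [∀ i, Module A (G i)]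
  [∀ i, IsScalarTower A R (G i)] {u : ∀ i, M →ₗ[R] G i}

attribute [local instance] Algebra.TensorProduct.rightAlgebra

omit [Module A M] [IsScalarTower A R M] [∀ i, Module A (G i)] [∀ i, IsScalarTower A R (G i)] in
/-- Base change in two steps along the base. -/
theorem sepBC_step_iff (B K : Type u) [CommRing B] [Algebra A B] [CommRing K] [Algebra A K]
    [Algebra B K] [IsScalarTower A B K] :
    SepBC (fun i => (u i).baseChange (R ⊗[A] B)) ((R ⊗[A] B) ⊗[B] K) ↔ SepBC u (R ⊗[A] K) := by
  haveI : IsScalarTower A B ((R ⊗[A] B) ⊗[B] K) :=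
    IsScalarTower.of_algebraMap_eq (R := A) (S := B) (A := (R ⊗[A] B) ⊗[B] K) fun a =>
      (IsScalarTower.algebraMap_apply A (R ⊗[A] B) ((R ⊗[A] B) ⊗[B] K) a).trans
        ((congrArg _ (IsScalarTower.algebraMap_apply A B (R ⊗[A] B) a)).trans
          (IsScalarTower.algebraMap_apply B (R ⊗[A] B) ((R ⊗[A] B) ⊗[B] K) _).symm)
  haveI : IsScalarTower A K ((R ⊗[A] B) ⊗[B] K) := .of_algebraMap_eq fun a => by
    rw [IsScalarTower.algebraMap_apply A B ((R ⊗[A] B) ⊗[B] K),
      IsScalarTower.algebraMap_apply B K ((R ⊗[A] B) ⊗[B] K), ← IsScalarTower.algebraMap_apply A B K]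
  have hpo : Algebra.IsPushout A K R ((R ⊗[A] B) ⊗[B] K) :=
    (Algebra.IsPushout.comp_iff A B R (R ⊗[A] B) (T := K) (T' := (R ⊗[A] B) ⊗[B] K)).2 inferInstance
  haveI := hpo.symm
  let e : R ⊗[A] K ≃ₐ[R] (R ⊗[A] B) ⊗[B] K := Algebra.IsPushout.equiv A R K ((R ⊗[A] B) ⊗[B] K)
  refine sep_baseChange_trans_iff.trans ⟨fun h => ?_, fun h => ?_⟩
  · exact Sep.baseChange_congr e.symm h
  · exact Sep.baseChange_congr e h

/-- A family separating on every fibre over the base is universally separating. -/
theorem sepBC_of_fibres [IsNoetherianRing R] [Module.Finite R M] [∀ i, Module.Flat A (G i)]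
    (H : ∀ (p : Ideal A) [p.IsPrime], SepBC u (R ⊗[A] p.ResidueField)) (A' : Type u) [CommRing A']
    [Algebra A A'] : SepBC u (R ⊗[A] A') := by
  refine sep_baseChange_of_subalgebras A' fun S hS => ?_
  haveI : Algebra.FiniteType A S := (Subalgebra.fg_iff_finiteType _).1 hS
  let RS := R ⊗[A] S
  haveI : Algebra.FiniteType R RS := inferInstance
  haveI : IsNoetherianRing RS := Algebra.FiniteType.isNoetherianRing R RS
  haveI : ∀ i, Module.Flat S (RS ⊗[R] G i) := fun i =>
    Module.Flat.of_linearEquiv (Algebra.IsPushout.cancelBaseChange A S R RS (G i))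
  refine sep_of_fibres (A := S) (R := RS) fun P _ => ?_
  rw [sepBC_step_iff]
  let p : Ideal A := P.comap (algebraMap A S)
  haveI : P.LiesOver p := ⟨rfl⟩
  letI := Localization.AtPrime.algebraOfLiesOver p P
  rw [← sepBC_step_iff (B := p.ResidueField)]
  exact Sep.baseChange_of_field (H p) P.ResidueField

end Groth.Agent.SepLib
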