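import Mathlib
import Groth.Agent.SepLib.LfpFibre
import Groth.Agent.SepLib.Universal

/-!
Sections supported outside a fibrewise dense open vanish after every base change.
-/

set_option autoImplicit false
set_option linter.style.haveILetI false
set_option backward.isDefEq.respectTransparency false

universe u

open TensorProduct

namespace Groth.Agent.SepLib

variable {R : Type u} [CommRing R] {α : Type u} (g : α → R)

/-- A module has no section supported outside the union of the basic opens of a family, on any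
basic open. -/
def PowSep (M : Type u) [AddCommGroup M] [Module R M] : Prop :=
  ∀ (a : R) (m : M), (∀ i, ∃ n : ℕ, (a * g i) ^ n • m = 0) → ∃ n : ℕ, a ^ n • m = 0

variable {g} in
theorem PowSep.eq_zero {M : Type u} [AddCommGroup M] [Module R M] (h : PowSep g M) {m : M}
    (hm : ∀ i, ∃ n : ℕ, g i ^ n • m = 0) : m = 0 := by
  obtain ⟨n, hn⟩ := h 1 m fun i => by simpa using hm i
  simpa using hn

variable {g} in
theorem PowSep.of_equiv {M : Type u} [AddCommGroup M] [Module R M] {R' : Type u} [CommRing R']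
    (σ : R ≃+* R') {g' : α → R'} (hg : ∀ i, σ (g i) = g' i) {M' : Type u} [AddCommGroup M']
    [Module R' M'] (e : M ≃+ M') (he : ∀ (r : R) m, e (r • m) = σ r • e m) (h : PowSep g M) :
    PowSep g' M' := by
  intro a' m' hm'
  obtain ⟨a, rfl⟩ := σ.surjective a'
  obtain ⟨m, rfl⟩ := e.surjective m'
  obtain ⟨n, hn⟩ := h a m fun i => by
    obtain ⟨n, hn⟩ := hm' i
    refine ⟨n, e.injective ?_⟩
    rw [he, map_pow, map_mul, hg, hn, map_zero]
  exact ⟨n, by rw [← map_pow, ← he, hn, map_zero]⟩

variable {M : Type u} [AddCommGroup M] [Module R M]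

variable {g} in
/-- Transfer along an isomorphism of algebras and a base change of modules. -/
theorem PowSep.of_isBaseChange {B B' : Type u} [CommRing B] [Algebra R B] [CommRing B'] [Algebra R B']
    (ε : B ≃ₐ[R] B') {M' : Type u} [AddCommGroup M'] [Module R M'] [Module B' M']
    [IsScalarTower R B' M'] {f : M →ₗ[R] M'} (hf : IsBaseChange B' f)
    (h : PowSep (fun i => algebraMap R B (g i)) (B ⊗[R] M)) :
    PowSep (fun i => algebraMap R B' (g i)) M' := by
  let e : B ⊗[R] M ≃ₗ[R] M' :=
    (TensorProduct.congr ε.toLinearEquiv (LinearEquiv.refl R M)).trans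
      (hf.equiv.restrictScalars R)
  refine h.of_equiv ε.toRingEquiv (fun i => ε.commutes _) e.toAddEquiv fun r m => ?_
  show e (r • m) = ε r • e m
  induction m using TensorProduct.induction_on with
  | zero => simp
  | tmul b p => simp [e, TensorProduct.smul_tmul', IsBaseChange.equiv_tmul, mul_smul]
  | add x y hx hy => simp only [smul_add, map_add, hx, hy]

variable {g} in
/-- Transfer back along an isomorphism of algebras and a base change of modules. -/
theorem PowSep.to_tensor {B B' : Type u} [CommRing B] [Algebra R B] [CommRing B'] [Algebra R B']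
    (ε : B ≃ₐ[R] B') {M' : Type u} [AddCommGroup M'] [Module R M'] [Module B' M']
    [IsScalarTower R B' M'] {f : M →ₗ[R] M'} (hf : IsBaseChange B' f)
    (h : PowSep (fun i => algebraMap R B' (g i)) M') :
    PowSep (fun i => algebraMap R B (g i)) (B ⊗[R] M) := by
  let e : B ⊗[R] M ≃ₗ[R] M' :=
    (TensorProduct.congr ε.toLinearEquiv (LinearEquiv.refl R M)).trans
      (hf.equiv.restrictScalars R)
  have he : ∀ (r : B) m, e (r • m) = ε r • e m := by
    intro r m
    induction m using TensorProduct.induction_on with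
    | zero => simp
    | tmul b p => simp [e, TensorProduct.smul_tmul', IsBaseChange.equiv_tmul, mul_smul]
    | add x y hx hy => simp only [smul_add, map_add, hx, hy]
  refine h.of_equiv ε.symm.toRingEquiv (fun i => ε.symm.commutes _) e.symm.toAddEquiv fun r m => ?_
  show e.symm (r • m) = ε.symm r • e.symm m
  refine e.injective ?_
  rw [he, LinearEquiv.apply_symm_apply, LinearEquiv.apply_symm_apply, AlgEquiv.apply_symm_apply]

variable {A : Type u} [CommRing A] [Algebra A R]

attribute [local instance] Algebra.TensorProduct.rightAlgebra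

/-- The fibre of the base changed ring is the fibre of the ring. -/
theorem nonempty_stepEquiv (B K : Type u) [CommRing B] [Algebra A B] [CommRing K] [Algebra A K]
    [Algebra B K] [IsScalarTower A B K] :
    Nonempty ((R ⊗[A] B) ⊗[B] K ≃ₐ[R] R ⊗[A] K) := by
  haveI : IsScalarTower A B ((R ⊗[A] B) ⊗[B] K) :=
    IsScalarTower.of_algebraMap_eq (R := A) (S := B) (A := (R ⊗[A] B) ⊗[B] K) fun a =>
      (IsScalarTower.algebraMap_apply A (R ⊗[A] B) ((R ⊗[A] B) ⊗[B] K) a).trans
        ((congrArg _ (IsScalarTower.algebraMap_apply A B (R ⊗[A] B) a)).trans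
          (IsScalarTower.algebraMap_apply B (R ⊗[A] B) ((R ⊗[A] B) ⊗[B] K) _).symm)
  haveI : IsScalarTower A K ((R ⊗[A] B) ⊗[B] K) := .of_algebraMap_eq fun a => by
    rw [IsScalarTower.algebraMap_apply A B ((R ⊗[A] B) ⊗[B] K),
      IsScalarTower.algebraMap_apply B K ((R ⊗[A] B) ⊗[B] K), ← IsScalarTower.algebraMap_apply A B K]
  have hpo : Algebra.IsPushout A K R ((R ⊗[A] B) ⊗[B] K) :=
    (Algebra.IsPushout.comp_iff A B R (R ⊗[A] B) (T := K) (T' := (R ⊗[A] B) ⊗[B] K)).2 inferInstance
  haveI := hpo.symm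
  exact ⟨(Algebra.IsPushout.equiv A R K ((R ⊗[A] B) ⊗[B] K)).symm⟩

variable [Module A M] [IsScalarTower A R M]

omit [Algebra A R] [Module R M] [IsScalarTower A R M] in
theorem exists_coords (k K : Type u) [Field k] [Algebra A k] [Field K] [Algebra A K] [Algebra k K]
    [IsScalarTower A k K] :
    ∃ (β : Type u) (_ : Nonempty β), Nonempty (K ≃ₗ[A] β →₀ k) := by
  let b := Module.Free.chooseBasis k K
  exact ⟨_, b.index_nonempty, ⟨b.repr.restrictScalars A⟩⟩

/-- Separation of the fibre over a field does not depend on the field. -/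
theorem fibre_sep_iff (k K : Type u) [Field k] [Algebra A k] [Field K] [Algebra A K] [Algebra k K]
    [IsScalarTower A k K] :
    (∀ y : (R ⊗[A] K) ⊗[R] M, (∀ i, ∃ n : ℕ, g i ^ n • y = 0) → y = 0) ↔
      ∀ y : (R ⊗[A] k) ⊗[R] M, (∀ i, ∃ n : ℕ, g i ^ n • y = 0) → y = 0 := by
  classical
  obtain ⟨β, ⟨b₀⟩, ⟨e⟩⟩ := exists_coords (A := A) k K
  let Φ : (R ⊗[A] K) ⊗[R] M ≃ₗ[R] β →₀ M ⊗[A] k :=
    (theta A K M).trans ((AlgebraTensorModule.congr (LinearEquiv.refl R M) e).trans
      (TensorProduct.finsuppRight A R M k β))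
  constructor
  · intro h y hy
    have h1 : Φ.symm (Finsupp.single b₀ (theta A k M y)) = 0 := h _ fun i => by
      obtain ⟨n, hn⟩ := hy i
      exact ⟨n, by rw [← map_smul, Finsupp.smul_single, ← map_smul, hn, map_zero,
        Finsupp.single_zero, map_zero]⟩
    rwa [LinearEquiv.map_eq_zero_iff, Finsupp.single_eq_zero, LinearEquiv.map_eq_zero_iff] at h1
  · intro h y hy
    refine Φ.map_eq_zero_iff.1 (Finsupp.ext fun b => ?_)
    refine (theta (R := R) A k M).symm.map_eq_zero_iff.1 (h _ fun i => ?_)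
    obtain ⟨n, hn⟩ := hy i
    exact ⟨n, by rw [← map_smul, ← Finsupp.smul_apply, ← map_smul, hn, map_zero,
      Finsupp.zero_apply, map_zero]⟩

/-- For a flat module of finite presentation, separation on the fibres is universal. -/
theorem powSep_baseChange_of_fibres [Algebra.FinitePresentation A R]
    [Module.FinitePresentation R M] [Module.Flat A M]
    (H : ∀ (p : Ideal A) [p.IsPrime] (y : (R ⊗[A] p.ResidueField) ⊗[R] M),
      (∀ i, ∃ n : ℕ, g i ^ n • y = 0) → y = 0)
    (A' : Type u) [CommRing A'] [Algebra A A'] :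
    PowSep (fun i => algebraMap R (R ⊗[A] A') (g i)) ((R ⊗[A] A') ⊗[R] M) := by
  let R' := R ⊗[A] A'
  let M' := R' ⊗[R] M
  haveI : Algebra.FinitePresentation A' R' :=
    Algebra.FinitePresentation.equiv
      ({ Algebra.TensorProduct.comm A A' R with
          commutes' := fun a => by simp [Algebra.TensorProduct.comm_tmul]; rfl } :
        A' ⊗[A] R ≃ₐ[A'] R')
  haveI : Module.Flat A' M' :=
    Module.Flat.of_linearEquiv (Algebra.IsPushout.cancelBaseChange A A' R R' M)
  intro a m hm
  refine exists_pow_smul_eq_zero_of_fibres (A := A') (R := R') (M := M') (fun i => algebraMap R R' (g i)) a m hm fun P _ y hy => ?_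
  let p : Ideal A := P.comap (algebraMap A A')
  haveI : P.LiesOver p := ⟨rfl⟩
  letI := Localization.AtPrime.algebraOfLiesOver p P
  have HP : ∀ y : (R ⊗[A] P.ResidueField) ⊗[R] M, (∀ i, ∃ n : ℕ, g i ^ n • y = 0) → y = 0 :=
    (fibre_sep_iff g p.ResidueField P.ResidueField).2 (H p)
  obtain ⟨σ⟩ := nonempty_stepEquiv (A := A) (R := R) A' P.ResidueField
  let C := R' ⊗[A'] P.ResidueField
  let Φ : C ⊗[R'] M' ≃ₗ[R] (R ⊗[A] P.ResidueField) ⊗[R] M :=
    ((AlgebraTensorModule.cancelBaseChange R R' C C M).restrictScalars R).trans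
      (TensorProduct.congr σ.toLinearEquiv (LinearEquiv.refl R M))
  refine Φ.map_eq_zero_iff.1 (HP _ fun i => ?_)
  obtain ⟨n, hn⟩ := hy i
  refine ⟨n, ?_⟩
  rw [← map_smul, ← map_zero Φ, ← hn, ← map_pow, algebraMap_smul]

end Groth.Agent.SepLib
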