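import Mathlib
import Groth.Agent.SepLib.Universal

/-!
Descent of separation along algebra maps and change of the base ring of a tensor product.
-/

set_option autoImplicit false
set_option linter.style.haveILetI false
set_option backward.isDefEq.respectTransparency false

universe u

open TensorProduct

namespace Groth.Agent.SepLib

variable {R : Type u} [CommRing R] {M : Type u} [AddCommGroup M] [Module R M] {ι : Type u}
  {G : ι → Type u} [∀ i, AddCommGroup (G i)] [∀ i, Module R (G i)] {u : ∀ i, M →ₗ[R] G i}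

/-- Separation descends along an algebra map which stays injective after tensoring. -/
theorem sepBC_descent {B C : Type u} [CommRing B] [Algebra R B] [CommRing C] [Algebra R C]
    (φ : B →ₐ[R] C) (hinj : Function.Injective (φ.toLinearMap.rTensor M)) (h : SepBC u C) :
    SepBC u B := by
  have hsmul : ∀ (P : Type u) [AddCommGroup P] [Module R P] (c : B) (w : B ⊗[R] P),
      φ.toLinearMap.rTensor P (c • w) = φ c • φ.toLinearMap.rTensor P w := by
    intro P _ _ c w
    induction w using TensorProduct.induction_on with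
    | zero => simp
    | tmul b p => simp [TensorProduct.smul_tmul']
    | add x y hx hy => simp only [smul_add, map_add, hx, hy]
  intro a y hy
  obtain ⟨n, hn⟩ := h (φ a) (φ.toLinearMap.rTensor M y) fun i => by
    obtain ⟨n, hn⟩ := hy i
    refine ⟨n, ?_⟩
    rw [LinearMap.baseChange_eq_ltensor, ← LinearMap.comp_apply, LinearMap.lTensor_comp_rTensor,
      ← LinearMap.rTensor_comp_lTensor, LinearMap.comp_apply, ← LinearMap.baseChange_eq_ltensor,
      ← map_pow, ← hsmul, hn, map_zero]
  refine ⟨n, hinj ?_⟩
  rw [hsmul, map_pow, hn, map_zero]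

variable {A : Type u} [CommRing A] [Algebra A R]

/-- The fibre may be computed in any field over the base with the same kernel. -/
theorem sepBC_residueField (p : Ideal A) [p.IsPrime] (K : Type u) [Field K] [Algebra A K]
    (hK : RingHom.ker (algebraMap A K) = p) (h : SepBC u (R ⊗[A] K)) :
    SepBC u (R ⊗[A] p.ResidueField) := by
  let ψ : p.ResidueField →ₐ[A] K :=
    Ideal.ResidueField.liftₐ p (Algebra.ofId A K) (fun a ha => hK.ge ha) fun a ha =>
      isUnit_iff_ne_zero.2 fun h0 => ha (hK.le h0)
  letI : Algebra p.ResidueField K := ψ.toRingHom.toAlgebra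
  haveI : IsScalarTower A p.ResidueField K := .of_algebraMap_eq fun a => (ψ.commutes a).symm
  obtain ⟨r, hr⟩ := (Algebra.linearMap p.ResidueField K).exists_leftInverse_of_injective
    (LinearMap.ker_eq_bot.2 (RingHom.injective ψ.toRingHom))
  refine sepBC_descent (Algebra.TensorProduct.map (AlgHom.id R R) ψ) ?_ h
  refine Function.LeftInverse.injective
    (g := (TensorProduct.AlgebraTensorModule.map (LinearMap.id : R →ₗ[R] R)
      (r.restrictScalars A)).rTensor M) fun w => ?_
  rw [← LinearMap.rTensor_comp_apply]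
  refine Eq.trans (congrArg (fun l => LinearMap.rTensor M l w) ?_) (LinearMap.rTensor_id_apply _ _ w)
  ext x
  exact congrArg ((1 : R) ⊗ₜ[A] ·) (LinearMap.congr_fun hr x)

/-- Tensor products over isomorphic base rings agree. -/
theorem nonempty_tensorCongrBase {A₀ A₀' A' : Type u} [CommRing A₀] [Algebra A₀ R] [CommRing A₀']
    [Algebra A₀ A₀'] [CommRing A'] [Algebra A A'] (σ : A₀ ≃+* A) (σ' : A₀' ≃+* A')
    (hR : ∀ a, algebraMap A₀ R a = algebraMap A R (σ a))
    (h' : ∀ a, σ' (algebraMap A₀ A₀' a) = algebraMap A A' (σ a)) :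
    Nonempty (R ⊗[A₀] A₀' ≃ₐ[R] R ⊗[A] A') := by
  letI : Algebra A R := ‹_›
  have e1 : ∀ a, algebraMap A R a = algebraMap A₀ R (σ.symm a) := fun a => by
    rw [hR, RingEquiv.apply_symm_apply]
  have e2 : ∀ a, σ'.symm (algebraMap A A' a) = algebraMap A₀ A₀' (σ.symm a) := fun a => by
    apply σ'.injective
    rw [h', RingEquiv.apply_symm_apply, RingEquiv.apply_symm_apply]
  let g : A₀' →ₐ[A₀] R ⊗[A] A' :=
    { (Algebra.TensorProduct.includeRight (R := A) (A := R) (B := A')).toRingHom.comp
        σ'.toRingHom with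
      commutes' := fun a => by
        show (1 : R) ⊗ₜ[A] σ' (algebraMap A₀ A₀' a) = algebraMap A₀ R a ⊗ₜ[A] (1 : A')
        rw [h', hR, ← Algebra.TensorProduct.tmul_one_eq_one_tmul] }
  let g' : A' →ₐ[A] R ⊗[A₀] A₀' :=
    { (Algebra.TensorProduct.includeRight (R := A₀) (A := R) (B := A₀')).toRingHom.comp
        σ'.symm.toRingHom with
      commutes' := fun a => by
        show (1 : R) ⊗ₜ[A₀] σ'.symm (algebraMap A A' a) = algebraMap A R a ⊗ₜ[A₀] (1 : A₀')
        rw [e2, e1, ← Algebra.TensorProduct.tmul_one_eq_one_tmul] }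
  refine ⟨AlgEquiv.ofAlgHom (Algebra.TensorProduct.lift (Algebra.ofId _ _) g fun _ _ => .all _ _)
    (Algebra.TensorProduct.lift (Algebra.ofId _ _) g' fun _ _ => .all _ _) ?_ ?_⟩
  · refine Algebra.TensorProduct.ext (Subsingleton.elim _ _) (AlgHom.ext fun x => ?_)
    simp [g, g']
  · refine Algebra.TensorProduct.ext (Subsingleton.elim _ _) (AlgHom.ext fun x => ?_)
    simp [g, g']

end Groth.Agent.SepLib
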