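import Mathlib
import Groth.Agent.SepLib.Universal
import Groth.Agent.PullbackMod.Hom
import Groth.Agent.PullbackMod.Sections
import Groth.Agent.PullbackMod.Flat

/-!
Separating families of homomorphisms of quasi-coherent modules: passage to affine opens.
-/

set_option autoImplicit false
set_option linter.style.haveILetI false
set_option backward.isDefEq.respectTransparency false

universe u

open CategoryTheory CategoryTheory.Limits AlgebraicGeometry TopologicalSpace Opposite TensorProduct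
open Groth.Agent.CohBase Groth.Agent.QCohLib Groth.Agent.PullbackMod

namespace Groth.Agent.SepLib

variable {X : Scheme.{u}} {F : X.Modules} {ι : Type u} {G : ι → X.Modules} (u : ∀ i, F ⟶ G i)

/-- A family of homomorphisms is separating. -/
def MSep : Prop :=
  ∀ (V : X.Opens) (t : ↑(F.presheaf.obj (op V))),
    (∀ i, (Scheme.Modules.Hom.mapPresheaf (u i)).app (op V) t = 0) → t = 0

variable [Coh.IsQCoh F] [∀ i, Coh.IsQCoh (G i)]

variable {u} in
theorem MSep.sep (h : MSep u) {W : X.Opens} (hW : IsAffineOpen W) :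
    Sep (R := Γ(X, W)) (M := Γ(F, W)) (G := fun i => Γ(G i, W)) fun i => appLin (u i) W := by
  intro a m hm
  have hres : ∀ (P : X.Modules) (n : ℕ) (y : Γ(P, W)), a ^ n • y = 0 →
      P.presheaf.map (homOfLE (X.basicOpen_le a)).op y = 0 := by
    intro P n y hy
    have h0 := congrArg (P.presheaf.map (homOfLE (X.basicOpen_le a)).op) hy
    rw [map_zero] at h0
    have h1 : X.presheaf.map (homOfLE (X.basicOpen_le a)).op (a ^ n) •
        P.presheaf.map (homOfLE (X.basicOpen_le a)).op y = 0 :=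
      (P.val.map_smul (homOfLE (X.basicOpen_le a)).op (a ^ n) y).symm.trans h0
    refine (IsUnit.smul_eq_zero ?_).1 h1
    rw [map_pow]
    exact (X.toRingedSpace.isUnit_res_basicOpen a).pow n
  have h0 : F.presheaf.map (homOfLE (X.basicOpen_le a)).op m = 0 := by
    refine h _ _ fun i => ?_
    obtain ⟨n, hn⟩ := hm i
    exact (ConcreteCategory.congr_hom
      ((u i).mapPresheaf.naturality (homOfLE (X.basicOpen_le a)).op) m).trans (hres _ n _ hn)
  obtain ⟨n, hn⟩ := (locAt F hW).kill a m h0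
  refine ⟨n, ?_⟩
  rw [sc_apply, show homOfLE (le_refl W) = 𝟙 W from rfl, op_id,
    CategoryTheory.Functor.map_id] at hn
  exact hn

variable {u} in
theorem msep_of_cover
    (h : ∀ x : X, ∃ (W : X.Opens), IsAffineOpen W ∧ x ∈ W ∧
      Sep (R := Γ(X, W)) (M := Γ(F, W)) (G := fun i => Γ(G i, W)) fun i => appLin (u i) W) :
    MSep u := by
  intro V t ht
  refine TopCat.Presheaf.section_ext
    ⟨F.presheaf, F.isSheaf⟩ V t 0 fun x hx => ?_
  obtain ⟨W, hW, hxW, hsep⟩ := h x
  obtain ⟨a, ha, hxa⟩ := hW.exists_basicOpen_le ⟨x, hx⟩ hxW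
  have hloc := locAt F hW
  obtain ⟨n, s, hs⟩ := hloc.extend a (F.presheaf.map (homOfLE ha).op t)
  have hsu : ∀ i, (G i).presheaf.map (homOfLE (X.basicOpen_le a)).op ((u i).app W s) = 0 := by
    intro i
    refine (ConcreteCategory.congr_hom
      ((u i).mapPresheaf.naturality (homOfLE (X.basicOpen_le a)).op) s).symm.trans ?_
    show (u i).app (X.basicOpen a) (F.presheaf.map (homOfLE (X.basicOpen_le a)).op s) = 0
    have h1 : (u i).app (X.basicOpen a) (F.presheaf.map (homOfLE ha).op t) = 0 :=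
      (ConcreteCategory.congr_hom ((u i).mapPresheaf.naturality (homOfLE ha).op) t).trans
        ((congrArg ((G i).presheaf.map (homOfLE ha).op) (ht i)).trans (map_zero _))
    rw [hs, sc_apply, Scheme.Modules.Hom.app_smul, h1, smul_zero]
  obtain ⟨N, hN⟩ := hsep a s fun i => by
    obtain ⟨m, hm⟩ := (locAt (G i) hW).kill a _ (hsu i)
    refine ⟨m, ?_⟩
    rw [sc_apply, show homOfLE (le_refl W) = 𝟙 W from rfl, op_id,
      CategoryTheory.Functor.map_id] at hm
    exact hm
  have hu : IsUnit (X.presheaf.map (homOfLE (X.basicOpen_le a)).op a) :=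
    X.toRingedSpace.isUnit_res_basicOpen a
  have h1 : X.presheaf.map (homOfLE (X.basicOpen_le a)).op (a ^ N) •
      F.presheaf.map (homOfLE (X.basicOpen_le a)).op s = 0 :=
    (F.val.map_smul (homOfLE (X.basicOpen_le a)).op (a ^ N) s).symm.trans
      ((congrArg _ hN).trans (map_zero _))
  rw [map_pow] at h1
  have h2 : F.presheaf.map (homOfLE ha).op t = 0 := by
    have h3 := (hu.pow N).smul_eq_zero.1 h1
    rw [hs, sc_apply, map_pow] at h3
    exact (hu.pow n).smul_eq_zero.1 h3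
  show F.presheaf.germ V x hx t = F.presheaf.germ V x hx 0
  rw [map_zero, ← F.presheaf.germ_res_apply (homOfLE ha) x hxa t, h2, map_zero]

variable {X' : Scheme.{u}} (g : X' ⟶ X) {W : X.Opens} {W' : X'.Opens}

/-- Sections of a pulled back family are the base change of the sections. -/
theorem sep_pullback_iff (hW : IsAffineOpen W) (hW' : IsAffineOpen W') (e : W' ≤ g ⁻¹ᵁ W) :
    letI : Algebra Γ(X, W) Γ(X', W') := (g.appLE W W' e).hom.toAlgebra
    (Sep (R := Γ(X', W')) (M := Γ((Scheme.Modules.pullback g).obj F, W'))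
      (G := fun i => Γ((Scheme.Modules.pullback g).obj (G i), W'))
      fun i => appLin ((Scheme.Modules.pullback g).map (u i)) W') ↔
      SepBC (R := Γ(X, W)) (M := Γ(F, W)) (G := fun i => Γ(G i, W)) (fun i => appLin (u i) W)
        Γ(X', W') := by
  letI : Algebra Γ(X, W) Γ(X', W') := (g.appLE W W' e).hom.toAlgebra
  letI hinst : ∀ P : X.Modules, Module Γ(X, W) Γ((Scheme.Modules.pullback g).obj P, W') :=
    fun P => Module.compHom _ (g.appLE W W' e).hom
  haveI : ∀ P : X.Modules,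
      IsScalarTower Γ(X, W) Γ(X', W') Γ((Scheme.Modules.pullback g).obj P, W') :=
    fun P => .of_algebraMap_smul fun _ _ => rfl
  let E : ∀ (P : X.Modules) [Coh.IsQCoh P],
      Γ(X', W') ⊗[Γ(X, W)] Γ(P, W) ≃ₗ[Γ(X', W')] Γ((Scheme.Modules.pullback g).obj P, W') :=
    fun P _ => (isBaseChange_pullMapL g P hW hW' e).equiv
  have hnat : ∀ i z, appLin ((Scheme.Modules.pullback g).map (u i)) W' (E F z) =
      E (G i) ((appLin (u i) W).baseChange Γ(X', W') z) := by
    intro i z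
    induction z using TensorProduct.induction_on with
    | zero => simp
    | tmul b m =>
      rw [LinearMap.baseChange_tmul, IsBaseChange.equiv_tmul, IsBaseChange.equiv_tmul, map_smul]
      exact congrArg (b • ·) (pullMap_natural g (u i) e m)
    | add x y hx hy => simp only [map_add, hx, hy]
  constructor
  · intro h
    refine h.of_equiv (RingEquiv.refl _) _ (E F).symm.toAddEquiv
      (fun i => (E (G i)).symm.toAddEquiv) (fun r m => map_smul (E F).symm r m)
      (fun i r m => map_smul (E (G i)).symm r m) fun i m => (E (G i)).injective ?_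
    show E (G i) ((appLin (u i) W).baseChange Γ(X', W') ((E F).symm m)) =
      E (G i) ((E (G i)).symm _)
    rw [← hnat, LinearEquiv.apply_symm_apply, LinearEquiv.apply_symm_apply]
  · intro h
    exact Sep.of_equiv (RingEquiv.refl _) _ (E F).toAddEquiv (fun i => (E (G i)).toAddEquiv)
      (fun r m => map_smul (E F) r m) (fun i r m => map_smul (E (G i)) r m) hnat h

variable {S S' : Scheme.{u}} {f : X ⟶ S} {f' : X' ⟶ S'} {g' : S' ⟶ S}
  (hc : IsPullback g f' f g') {V : S.Opens} {V' : S'.Opens}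

include hc in
/-- On the affine pieces of a fibre product, the pulled back family is a base change along the
tensor product. -/
theorem sep_baseChange_iff (hV : IsAffineOpen V) (hW : IsAffineOpen W) (hV' : IsAffineOpen V')
    (e : W ≤ f ⁻¹ᵁ V) (e' : V' ≤ g' ⁻¹ᵁ V) :
    letI : Algebra Γ(S, V) Γ(X, W) := (f.appLE V W e).hom.toAlgebra
    letI : Algebra Γ(S, V) Γ(S', V') := (g'.appLE V V' e').hom.toAlgebra
    (Sep (R := Γ(X', g ⁻¹ᵁ W ⊓ f' ⁻¹ᵁ V'))
      (M := Γ((Scheme.Modules.pullback g).obj F, g ⁻¹ᵁ W ⊓ f' ⁻¹ᵁ V'))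
      (G := fun i => Γ((Scheme.Modules.pullback g).obj (G i), g ⁻¹ᵁ W ⊓ f' ⁻¹ᵁ V'))
      fun i => appLin ((Scheme.Modules.pullback g).map (u i)) _) ↔
      SepBC (R := Γ(X, W)) (M := Γ(F, W)) (G := fun i => Γ(G i, W)) (fun i => appLin (u i) W)
        (Γ(X, W) ⊗[Γ(S, V)] Γ(S', V')) := by
  obtain ⟨hW', hpo⟩ := isPushout_appLE hc hV hW hV' e e'
  rw [sep_pullback_iff u g hW hW' inf_le_left]
  letI : Algebra Γ(S, V) Γ(X, W) := (f.appLE V W e).hom.toAlgebra
  letI : Algebra Γ(S, V) Γ(S', V') := (g'.appLE V V' e').hom.toAlgebra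
  letI : Algebra Γ(X, W) Γ(X', g ⁻¹ᵁ W ⊓ f' ⁻¹ᵁ V') :=
    (g.appLE W _ inf_le_left).hom.toAlgebra
  letI : Algebra Γ(S', V') Γ(X', g ⁻¹ᵁ W ⊓ f' ⁻¹ᵁ V') :=
    (f'.appLE V' _ inf_le_right).hom.toAlgebra
  letI : Algebra Γ(S, V) Γ(X', g ⁻¹ᵁ W ⊓ f' ⁻¹ᵁ V') :=
    ((g.appLE W _ inf_le_left).hom.comp (f.appLE V W e).hom).toAlgebra
  haveI : IsScalarTower Γ(S, V) Γ(X, W) Γ(X', g ⁻¹ᵁ W ⊓ f' ⁻¹ᵁ V') :=
    .of_algebraMap_eq fun _ => rfl
  haveI : IsScalarTower Γ(S, V) Γ(S', V') Γ(X', g ⁻¹ᵁ W ⊓ f' ⁻¹ᵁ V') :=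
    .of_algebraMap_eq' (by
      show ((f.appLE V W e) ≫ g.appLE W _ inf_le_left).hom =
        ((g'.appLE V V' e') ≫ f'.appLE V' _ inf_le_right).hom
      simp only [Scheme.Hom.appLE_comp_appLE, hc.w])
  haveI := hpo.symm
  let ε : Γ(X, W) ⊗[Γ(S, V)] Γ(S', V') ≃ₐ[Γ(X, W)] Γ(X', g ⁻¹ᵁ W ⊓ f' ⁻¹ᵁ V') :=
    Algebra.IsPushout.equiv Γ(S, V) Γ(X, W) Γ(S', V') _
  exact ⟨Sep.baseChange_congr ε.symm, Sep.baseChange_congr ε⟩

/-- Flatness over the base on sections. -/
theorem flat_sections (M : X.Modules) [Coh.IsQCoh M] (hM : FlatMod.IsFlatOver f M)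
    (hV : IsAffineOpen V) (hW : IsAffineOpen W) (e : W ≤ f ⁻¹ᵁ V) :
    letI := (f.appLE V W e).hom.toAlgebra
    letI := Module.compHom Γ(M, W) (f.appLE V W e).hom
    Module.Flat Γ(S, V) Γ(M, W) := by
  letI := (f.appLE V W e).hom.toAlgebra
  letI := Module.compHom Γ(M, W) (f.appLE V W e).hom
  haveI : IsScalarTower Γ(S, V) Γ(X, W) Γ(M, W) := .of_algebraMap_smul fun _ _ => rfl
  refine Module.flat_of_isLocalized_maximal Γ(X, W) _
    (fun P _ => LocalizedModule P.primeCompl Γ(M, W)) (fun P _ => LocalizedModule.mkLinearMap _ _)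
    fun P hP => ?_
  let q : PrimeSpectrum Γ(X, W) := ⟨P, hP.isPrime⟩
  have hx : hW.fromSpec q ∈ W := hW.range_fromSpec.le ⟨q, rfl⟩
  have hq : hW.primeIdealOf ⟨hW.fromSpec q, hx⟩ = q :=
    hW.fromSpec.isOpenEmbedding.injective (hW.fromSpec_primeIdealOf ⟨hW.fromSpec q, hx⟩)
  have := (FlatLocus.isFlatOverAt_iff f M hV hW e (hW.fromSpec q) hx).1 (hM _)
  rw [hq] at this
  exact this

end Groth.Agent.SepLib
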