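import Mathlib
import Groth.Agent.SepLib.Modules
import Groth.Agent.SepLib.Descend
import Groth.Agent.ArtFree.Basic
import Groth.Agent.QCohLib.Coherent

/-!
Separating families of quasi-coherent modules: behaviour under flat base change, base change over a
field, fibrewise criterion.
-/

set_option autoImplicit false
set_option linter.style.haveILetI false
set_option backward.isDefEq.respectTransparency false

universe u

open CategoryTheory CategoryTheory.Limits AlgebraicGeometry TopologicalSpace Opposite TensorProduct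
open Groth.Agent.CohBase Groth.Agent.QCohLib Groth.Agent.PullbackMod

namespace Groth.Agent.SepLib

variable {X X' : Scheme.{u}} (F : X.Modules) [Coh.IsQCoh F] {ι : Type u}
  (G : ι → X.Modules) [∀ i, Coh.IsQCoh (G i)] (u : ∀ i, F ⟶ G i) (g : X' ⟶ X)

theorem msep_pullback_of_faithfullyFlat_descent [Flat g] [Surjective g]
    (h : MSep fun i => (Scheme.Modules.pullback g).map (u i)) : MSep u := by
  intro V t ht
  refine TopCat.Presheaf.section_ext ⟨F.presheaf, F.isSheaf⟩ V t 0 fun x hx => ?_
  obtain ⟨x', rfl⟩ := g.surjective x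
  have h0 : pullMap g F (le_refl (g ⁻¹ᵁ V)) t = 0 := h _ _ fun i =>
    (pullMap_natural g (u i) (le_refl (g ⁻¹ᵁ V)) t).trans
      ((congrArg _ (ht i)).trans (map_zero _))
  show F.presheaf.germ V (g x') hx t = F.presheaf.germ V (g x') hx 0
  rw [map_zero]
  letI : Algebra (X.presheaf.stalk (g x')) (X'.presheaf.stalk x') := (g.stalkMap x').hom.toAlgebra
  letI := Module.compHom (((Scheme.Modules.pullback g).obj F).presheaf.stalk x')
    (g.stalkMap x').hom
  haveI : IsScalarTower (X.presheaf.stalk (g x')) (X'.presheaf.stalk x')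
      (((Scheme.Modules.pullback g).obj F).presheaf.stalk x') :=
    .of_algebraMap_smul fun _ _ => rfl
  haveI := faithfullyFlat_stalk g x'
  have hb := isBaseChange_pullStalkL g F x'
  refine Module.FaithfullyFlat.tensorProduct_mk_injective (A := X.presheaf.stalk (g x'))
    (B := X'.presheaf.stalk x') (F.presheaf.stalk (g x')) ?_
  rw [map_zero]
  refine hb.equiv.injective ?_
  rw [map_zero, TensorProduct.mk_apply, IsBaseChange.equiv_tmul, one_smul]
  exact ((pullStalk_germ' g F x' hx (show x' ∈ g ⁻¹ᵁ V from hx) le_rfl t).trans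
    ((congrArg _ h0).trans (map_zero _)))

variable {F G}

variable {u} in
/-- Pullback preserves separation when it does so on sections over affine opens. -/
theorem msep_pullback_of_affine
    (H : ∀ {W : X.Opens} {W' : X'.Opens} (_ : IsAffineOpen W) (_ : IsAffineOpen W')
      (e : W' ≤ g ⁻¹ᵁ W), letI : Algebra Γ(X, W) Γ(X', W') := (g.appLE W W' e).hom.toAlgebra
        SepBC (R := Γ(X, W)) (M := Γ(F, W)) (G := fun i => Γ(G i, W)) (fun i => appLin (u i) W)
          Γ(X', W')) :
    MSep fun i => (Scheme.Modules.pullback g).map (u i) := by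
  haveI := isQCoh_pullback g F
  haveI := fun i => isQCoh_pullback g (G i)
  refine msep_of_cover fun x' => ?_
  obtain ⟨W, W', hW, hW', hx', e⟩ := exists_affine_pair g x'
  exact ⟨W', hW', hx', (sep_pullback_iff u g hW hW' e).2 (H hW hW' e)⟩

theorem msep_pullback_flat_lfp [Flat g] [LocallyOfFinitePresentation g] (h : MSep u) :
    MSep fun i => (Scheme.Modules.pullback g).map (u i) := by
  refine msep_pullback_of_affine g fun {W W'} hW hW' e => ?_
  letI : Algebra Γ(X, W) Γ(X', W') := (g.appLE W W' e).hom.toAlgebra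
  haveI : Module.Flat Γ(X, W) Γ(X', W') :=
    HasRingHomProperty.appLE @Flat g inferInstance ⟨W, hW⟩ ⟨W', hW'⟩ e
  haveI : Algebra.FinitePresentation Γ(X, W) Γ(X', W') := g.finitePresentation_appLE hW hW' e
  exact (h.sep hW).baseChange_of_flat_fp _

theorem msep_pullback_flat_finite [Finite ι] [Flat g] (h : MSep u) :
    MSep fun i => (Scheme.Modules.pullback g).map (u i) := by
  refine msep_pullback_of_affine g fun {W W'} hW hW' e => ?_
  letI : Algebra Γ(X, W) Γ(X', W') := (g.appLE W W' e).hom.toAlgebra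
  haveI : Module.Flat Γ(X, W) Γ(X', W') :=
    HasRingHomProperty.appLE @Flat g inferInstance ⟨W, hW⟩ ⟨W', hW'⟩ e
  exact (h.sep hW).baseChange_of_finite _

theorem msep_pullback_flat_artinian [IsNoetherian X] (hX : topologicalKrullDim X ≤ 0) [Flat g]
    (h : MSep u) : MSep fun i => (Scheme.Modules.pullback g).map (u i) := by
  haveI := isQCoh_pullback g F
  haveI := fun i => isQCoh_pullback g (G i)
  haveI : IsLocallyArtinian X := .of_topologicalKrullDim_le_zero hX
  refine msep_of_cover fun x' => ?_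
  obtain ⟨_, ⟨W : X.Opens, (hW : IsAffineOpen W), rfl⟩, hxW, hle⟩ :=
    X.isBasis_affineOpens.exists_subset_of_mem_open (Set.mem_singleton (g x')) (isOpen_discrete _)
  obtain ⟨_, ⟨W' : X'.Opens, (hW' : IsAffineOpen W'), rfl⟩, hxW', e⟩ :=
    X'.isBasis_affineOpens.exists_subset_of_mem_open (a := x') (u := ↑(g ⁻¹ᵁ W)) hxW (g ⁻¹ᵁ W).2
  refine ⟨W', hW', hxW', (sep_pullback_iff u g hW hW' e).2 ?_⟩
  letI : Algebra Γ(X, W) Γ(X', W') := (g.appLE W W' e).hom.toAlgebra
  haveI : Module.Flat Γ(X, W) Γ(X', W') :=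
    HasRingHomProperty.appLE @Flat g inferInstance ⟨W, hW⟩ ⟨W', hW'⟩ e
  haveI : IsArtinianRing Γ(X, W) := IsLocallyArtinian.isArtinianRing_presheaf_obj ⟨W, hW⟩
  haveI : IsLocalRing Γ(X, W) := by
    refine IsLocalRing.of_unique_max_ideal
      ⟨(hW.primeIdealOf ⟨g x', hxW⟩).asIdeal, inferInstance, fun m hm => ?_⟩
    have h1 : hW.fromSpec ⟨m, hm.isPrime⟩ = g x' :=
      hle (hW.range_fromSpec.le ⟨_, rfl⟩)
    rw [← hW.fromSpec.isOpenEmbedding.injective (h1.trans (hW.fromSpec_primeIdealOf ⟨_, hxW⟩).symm)]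
  have hnil : IsNilpotent (IsLocalRing.maximalIdeal Γ(X, W)) := by
    rw [← IsLocalRing.jacobson_eq_maximalIdeal ⊥ bot_ne_top]
    exact IsArtinianRing.isNilpotent_jacobson_bot
  refine (h.sep hW).baseChange_of_projective _ fun b => ?_
  haveI : Module.Flat Γ(X, W) (Localization.Away b) := Module.Flat.trans Γ(X, W) Γ(X', W') _
  haveI : Module.Free Γ(X, W) (Localization.Away b) := ArtFree.free_of_flat_of_nilpotent hnil
  infer_instance

variable {S S' : Scheme.{u}} (p : X ⟶ S) (q : S' ⟶ S)

variable {u} in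
/-- A base change is separating when it is so on products of affine opens. -/
theorem msep_fst_of_affine
    (H : ∀ {V : S.Opens} {W : X.Opens} {V' : S'.Opens} (_ : IsAffineOpen V) (_ : IsAffineOpen W)
      (_ : IsAffineOpen V') (e : W ≤ p ⁻¹ᵁ V) (e' : V' ≤ q ⁻¹ᵁ V),
        letI : Algebra Γ(S, V) Γ(X, W) := (p.appLE V W e).hom.toAlgebra
        letI : Algebra Γ(S, V) Γ(S', V') := (q.appLE V V' e').hom.toAlgebra
        SepBC (R := Γ(X, W)) (M := Γ(F, W)) (G := fun i => Γ(G i, W)) (fun i => appLin (u i) W)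
          (Γ(X, W) ⊗[Γ(S, V)] Γ(S', V'))) :
    MSep fun i => (Scheme.Modules.pullback (pullback.fst p q)).map (u i) := by
  haveI := isQCoh_pullback (pullback.fst p q) F
  haveI := fun i => isQCoh_pullback (pullback.fst p q) (G i)
  refine msep_of_cover fun x' => ?_
  obtain ⟨V, W, V', hV, hW, hV', e, e', hxW, hxV'⟩ :=
    exists_affines (IsPullback.of_hasPullback p q) x'
  exact ⟨_, (isPushout_appLE (IsPullback.of_hasPullback p q) hV hW hV' e e').1, ⟨hxW, hxV'⟩,
    (sep_baseChange_iff u (pullback.fst p q) (IsPullback.of_hasPullback p q) hV hW hV' e e').2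
      (H hV hW hV' e e')⟩

/-- Over a field every base change preserves separation. -/
theorem msep_fst_of_field (hS : ∀ V : S.Opens, IsAffineOpen V → Nonempty (V : Set S) → IsField Γ(S, V))
    (h : MSep u) : MSep fun i => (Scheme.Modules.pullback (pullback.fst p q)).map (u i) := by
  refine msep_fst_of_affine p q fun {V W V'} hV hW hV' e e' => ?_
  letI : Algebra Γ(S, V) Γ(X, W) := (p.appLE V W e).hom.toAlgebra
  letI : Algebra Γ(S, V) Γ(S', V') := (q.appLE V V' e').hom.toAlgebra
  by_cases hne : Nonempty (V : Set S)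
  · letI := (hS V hV hne).toField
    exact (h.sep hW).baseChange_of_field Γ(S', V')
  · haveI : Subsingleton Γ(S, V) := by
      have : V = ⊥ := by
        ext x
        exact ⟨fun hx => (hne ⟨⟨x, hx⟩⟩).elim, fun hx => hx.elim⟩
      subst this
      infer_instance
    haveI : Subsingleton (Γ(X, W) ⊗[Γ(S, V)] Γ(S', V')) :=
      Module.subsingleton Γ(S, V) _
    intro a m _
    haveI := Module.subsingleton (Γ(X, W) ⊗[Γ(S, V)] Γ(S', V'))
      ((Γ(X, W) ⊗[Γ(S, V)] Γ(S', V')) ⊗[Γ(X, W)] Γ(F, W))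
    exact ⟨0, Subsingleton.elim _ _⟩

theorem msep_fst_of_field_spec {k : Type u} [Field k] {X S' : Scheme.{u}}
    (p : X ⟶ Spec (CommRingCat.of k)) (q : S' ⟶ Spec (CommRingCat.of k))
    {F : X.Modules} [Coh.IsQCoh F] {ι : Type u} {G : ι → X.Modules} [∀ i, Coh.IsQCoh (G i)]
    (u : ∀ i, F ⟶ G i) (h : MSep u) :
    MSep fun i => (Scheme.Modules.pullback (pullback.fst p q)).map (u i) := by
  refine msep_fst_of_field u p q (fun V _ hne => ?_) h
  haveI : Subsingleton (Spec (CommRingCat.of k)) := inferInstanceAs (Subsingleton (PrimeSpectrum k))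
  have hV : V = ⊤ := by
    ext x
    obtain ⟨⟨y, hy⟩⟩ := hne
    exact ⟨fun _ => trivial, fun _ => Subsingleton.elim y x ▸ hy⟩
  subst hV
  exact MulEquiv.isField (Field.toIsField k)
    (Scheme.ΓSpecIso (CommRingCat.of k)).commRingCatIsoToRingEquiv.toMulEquiv

/-- The fibrewise criterion. -/
theorem univ_msep_iff_fibrewise [IsLocallyNoetherian X] (hF : Coh.IsCoh F)
    (hG : ∀ i, FlatMod.IsFlatOver p (G i)) :
    (∀ (S' : Scheme.{u}) (q : S' ⟶ S),
      MSep fun i => (Scheme.Modules.pullback (pullback.fst p q)).map (u i)) ↔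
    ∀ s : S, MSep fun i => (Scheme.Modules.pullback (p.fiberι s)).map (u i) := by
  refine ⟨fun h s => h _ (S.fromSpecResidueField s), fun h S' q => ?_⟩
  refine msep_fst_of_affine p q fun {V W V'} hV hW hV' e e' => ?_
  letI : Algebra Γ(S, V) Γ(X, W) := (p.appLE V W e).hom.toAlgebra
  letI : Algebra Γ(S, V) Γ(S', V') := (q.appLE V V' e').hom.toAlgebra
  haveI : IsNoetherianRing Γ(X, W) := IsLocallyNoetherian.component_noetherian ⟨W, hW⟩
  haveI : Module.Finite Γ(X, W) Γ(F, W) := QCohLib.finite_sections_of_isCoh hF hW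
  letI : Module Γ(S, V) Γ(F, W) := Module.compHom _ (p.appLE V W e).hom
  haveI : IsScalarTower Γ(S, V) Γ(X, W) Γ(F, W) := .of_algebraMap_smul fun _ _ => rfl
  letI : ∀ i, Module Γ(S, V) Γ(G i, W) := fun i => Module.compHom _ (p.appLE V W e).hom
  haveI : ∀ i, IsScalarTower Γ(S, V) Γ(X, W) Γ(G i, W) := fun i =>
    .of_algebraMap_smul fun _ _ => rfl
  haveI : ∀ i, Module.Flat Γ(S, V) Γ(G i, W) := fun i => flat_sections (G i) (hG i) hV hW e
  refine sepBC_of_fibres (fun P hP => ?_) _
  let s : S := hV.fromSpec ⟨P, hP⟩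
  have hsV : s ∈ V := hV.range_fromSpec.le ⟨_, rfl⟩
  have e₀ : (⊤ : (Spec (S.residueField s)).Opens) ≤ S.fromSpecResidueField s ⁻¹ᵁ V := fun z _ => by
    show S.fromSpecResidueField s z ∈ V
    rw [Scheme.fromSpecResidueField_apply]
    exact hsV
  have hfib : MSep fun i =>
      (Scheme.Modules.pullback (pullback.fst p (S.fromSpecResidueField s))).map (u i) := h s
  haveI := isQCoh_pullback (pullback.fst p (S.fromSpecResidueField s)) F
  haveI := fun i => isQCoh_pullback (pullback.fst p (S.fromSpecResidueField s)) (G i)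
  have hc := IsPullback.of_hasPullback p (S.fromSpecResidueField s)
  have hsep := (sep_baseChange_iff u (pullback.fst p (S.fromSpecResidueField s)) hc hV hW
    (isAffineOpen_top _) e e₀).1 (hfib.sep (isPushout_appLE hc hV hW (isAffineOpen_top _) e e₀).1)
  letI : Algebra Γ(S, V) Γ(Spec (S.residueField s), ⊤) :=
    ((S.fromSpecResidueField s).appLE V ⊤ e₀).hom.toAlgebra
  letI : Field Γ(Spec (S.residueField s), ⊤) := (MulEquiv.isField (Field.toIsField _)
    (Scheme.ΓSpecIso (S.residueField s)).commRingCatIsoToRingEquiv.toMulEquiv).toField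
  refine sepBC_residueField P Γ(Spec (S.residueField s), ⊤) ?_ hsep
  let z : ↥(Spec (S.residueField s)) := IsLocalRing.closedPoint _
  have hz : ((isAffineOpen_top _).primeIdealOf ⟨z, show z ∈ (⊤ : (Spec (S.residueField s)).Opens) from trivial⟩).asIdeal = ⊥ :=
    (Ideal.eq_bot_or_top _).resolve_right Ideal.IsPrime.ne_top'
  have hcm := congrArg PrimeSpectrum.asIdeal (IsAffineOpen.comap_primeIdealOf_appLE
    (f := S.fromSpecResidueField s) V hV ⊤ (isAffineOpen_top _) e₀ (x := z) trivial)
  rw [RingHom.ker_eq_comap_bot, ← hz]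
  refine hcm.trans ?_
  have : hV.primeIdealOf ⟨S.fromSpecResidueField s z, e₀ trivial⟩ = ⟨P, hP⟩ :=
    hV.fromSpec.isOpenEmbedding.injective ((hV.fromSpec_primeIdealOf _).trans
      (Scheme.fromSpecResidueField_apply s z))
  rw [this]

end Groth.Agent.SepLib
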