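import Mathlib
import Groth.Agent.SepLib.LfpDense
import Groth.Agent.SepLib.ModuleRows

/-!
Schematic density of an open for a quasi-coherent module, fibrewise and after base change.
-/

set_option autoImplicit false
set_option linter.style.haveILetI false
set_option backward.isDefEq.respectTransparency false

universe u

open CategoryTheory CategoryTheory.Limits AlgebraicGeometry TopologicalSpace Opposite TensorProduct
open Groth.Agent.CohBase Groth.Agent.QCohLib Groth.Agent.PullbackMod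

namespace Groth.Agent.SepLib

variable {X : Scheme.{u}} (F : X.Modules) (U : X.Opens)

/-- Restriction of sections to an open is injective everywhere. -/
def MDense : Prop :=
  ∀ V : X.Opens, Function.Injective (F.presheaf.map (homOfLE (inf_le_left : V ⊓ U ≤ V)).op)

variable {U} in
/-- The functions cutting out basic opens inside `U`. -/
abbrev cut (W : X.Opens) : Type u := {r : Γ(X, W) // X.basicOpen r ≤ U}

theorem exists_cut {W : X.Opens} (hW : IsAffineOpen W) (x : X) (hxW : x ∈ W) (hxU : x ∈ U) :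
    ∃ r : cut (U := U) W, x ∈ X.basicOpen r.1 := by
  obtain ⟨r, hr, hxr⟩ := hW.exists_basicOpen_le ⟨x, hxU⟩ hxW
  exact ⟨⟨r, hr⟩, hxr⟩

variable [Coh.IsQCoh F]

theorem exists_pow_smul_of_res_eq_zero {W : X.Opens} (hW : IsAffineOpen W) (a : Γ(X, W))
    (m : Γ(F, W)) (h : F.presheaf.map (homOfLE (X.basicOpen_le a)).op m = 0) :
    ∃ n : ℕ, a ^ n • m = 0 := by
  obtain ⟨n, hn⟩ := (locAt F hW).kill a m h
  refine ⟨n, ?_⟩
  rw [sc_apply, show homOfLE (le_refl W) = 𝟙 W from rfl, op_id,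
    CategoryTheory.Functor.map_id] at hn
  exact hn

omit [Coh.IsQCoh F] in
theorem res_eq_zero_of_pow_smul {W : X.Opens} (a : Γ(X, W)) (n : ℕ) (m : Γ(F, W))
    (h : a ^ n • m = 0) : F.presheaf.map (homOfLE (X.basicOpen_le a)).op m = 0 := by
  have h1 : X.presheaf.map (homOfLE (X.basicOpen_le a)).op (a ^ n) •
      F.presheaf.map (homOfLE (X.basicOpen_le a)).op m = 0 :=
    (F.val.map_smul (homOfLE (X.basicOpen_le a)).op (a ^ n) m).symm.trans
      ((congrArg _ h).trans (map_zero _))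
  refine (IsUnit.smul_eq_zero ?_).1 h1
  rw [map_pow]
  exact (X.toRingedSpace.isUnit_res_basicOpen a).pow n

variable {F U}

omit [Coh.IsQCoh F] in
theorem res_res {V₁ V₂ V₃ : X.Opens} (h₁ : V₂ ≤ V₁) (h₂ : V₃ ≤ V₂) (t : Γ(F, V₁)) :
    F.presheaf.map (homOfLE h₂).op (F.presheaf.map (homOfLE h₁).op t) =
      F.presheaf.map (homOfLE (h₂.trans h₁)).op t := by
  rw [← homOfLE_comp h₂ h₁, op_comp, Functor.map_comp]
  rfl

theorem MDense.powSep (h : MDense F U) {W : X.Opens} (hW : IsAffineOpen W) {α : Type u}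
    (g : α → Γ(X, W))
    (hcov : ∀ x ∈ W, x ∈ U → ∃ i, x ∈ X.basicOpen (g i)) :
    PowSep g Γ(F, W) := by
  intro a m hm
  refine exists_pow_smul_of_res_eq_zero F hW a m (h (X.basicOpen a) ?_)
  rw [map_zero]
  refine TopCat.Presheaf.section_ext ⟨F.presheaf, F.isSheaf⟩ _ _ 0 fun x hx => ?_
  obtain ⟨i, hi⟩ := hcov x (X.basicOpen_le a hx.1) hx.2
  obtain ⟨n, hn⟩ := hm i
  have hx' : x ∈ X.basicOpen (a * g i) := by
    rw [X.basicOpen_mul]
    exact ⟨hx.1, hi⟩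
  show F.presheaf.germ _ x hx _ = F.presheaf.germ _ x hx 0
  rw [map_zero, res_res (X.basicOpen_le a) inf_le_left, F.presheaf.germ_res_apply,
    ← F.presheaf.germ_res_apply (homOfLE (X.basicOpen_le (a * g i))) x hx' m,
    res_eq_zero_of_pow_smul F _ n m hn, map_zero]

theorem mdense_of_cover (h : ∀ x : X, ∃ (W : X.Opens) (α : Type u) (g : α → Γ(X, W)),
      IsAffineOpen W ∧ x ∈ W ∧ (∀ i, X.basicOpen (g i) ≤ U) ∧ PowSep g Γ(F, W)) :
    MDense F U := by
  intro V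
  rw [injective_iff_map_eq_zero]
  intro t ht
  refine TopCat.Presheaf.section_ext ⟨F.presheaf, F.isSheaf⟩ V t 0 fun x hx => ?_
  obtain ⟨W, α, g, hW, hxW, hgU, hsep⟩ := h x
  obtain ⟨a, ha, hxa⟩ := hW.exists_basicOpen_le ⟨x, hx⟩ hxW
  obtain ⟨n, s, hs⟩ := (locAt F hW).extend a (F.presheaf.map (homOfLE ha).op t)
  rw [sc_apply] at hs
  obtain ⟨N, hN⟩ := hsep a s fun i => by
    refine exists_pow_smul_of_res_eq_zero F hW _ s ?_
    have hle : X.basicOpen (a * g i) ≤ X.basicOpen a := by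
      rw [X.basicOpen_mul]
      exact inf_le_left
    have hU : X.basicOpen (a * g i) ≤ V ⊓ U := by
      rw [X.basicOpen_mul]
      exact inf_le_inf ha (hgU i)
    have hres : F.presheaf.map (homOfLE hle).op (F.presheaf.map (homOfLE ha).op t) = 0 := by
      rw [res_res ha hle, ← res_res inf_le_left hU, ht, map_zero]
    refine (res_res (X.basicOpen_le a) hle s).symm.trans ?_
    rw [hs]
    exact (F.val.map_smul (homOfLE hle).op _ _).trans
      ((congrArg _ hres).trans (smul_zero _))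
  have h1 : X.presheaf.map (homOfLE (X.basicOpen_le a)).op (a ^ N) •
      F.presheaf.map (homOfLE (X.basicOpen_le a)).op s = 0 :=
    (F.val.map_smul (homOfLE (X.basicOpen_le a)).op (a ^ N) s).symm.trans
      ((congrArg _ hN).trans (map_zero _))
  rw [map_pow] at h1
  have hu : IsUnit (X.presheaf.map (homOfLE (X.basicOpen_le a)).op a) :=
    X.toRingedSpace.isUnit_res_basicOpen a
  have h2 : F.presheaf.map (homOfLE ha).op t = 0 := by
    have h3 := (hu.pow N).smul_eq_zero.1 h1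
    rw [hs, map_pow] at h3
    exact (hu.pow n).smul_eq_zero.1 h3
  show F.presheaf.germ V x hx t = F.presheaf.germ V x hx 0
  rw [map_zero, ← F.presheaf.germ_res_apply (homOfLE ha) x hxa t, h2, map_zero]

variable {S S' X' : Scheme.{u}} {f : X ⟶ S} {q : S' ⟶ S} {g' : X' ⟶ X} {f' : X' ⟶ S'}
  (hc : IsPullback g' f' f q)

include hc in
/-- Density on a product of affine opens is separation of the tensor product. -/
theorem powSep_baseChange_iff {V : S.Opens} {W : X.Opens} {V' : S'.Opens} (hV : IsAffineOpen V)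
    (hW : IsAffineOpen W) (hV' : IsAffineOpen V') (e : W ≤ f ⁻¹ᵁ V) (e' : V' ≤ q ⁻¹ᵁ V)
    {α : Type u} (g : α → Γ(X, W)) :
    letI : Algebra Γ(S, V) Γ(X, W) := (f.appLE V W e).hom.toAlgebra
    letI : Algebra Γ(S, V) Γ(S', V') := (q.appLE V V' e').hom.toAlgebra
    PowSep (fun i => g'.appLE W (g' ⁻¹ᵁ W ⊓ f' ⁻¹ᵁ V') inf_le_left (g i))
      Γ((Scheme.Modules.pullback g').obj F, g' ⁻¹ᵁ W ⊓ f' ⁻¹ᵁ V') ↔
    PowSep (fun i => algebraMap Γ(X, W) (Γ(X, W) ⊗[Γ(S, V)] Γ(S', V')) (g i))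
      ((Γ(X, W) ⊗[Γ(S, V)] Γ(S', V')) ⊗[Γ(X, W)] Γ(F, W)) := by
  obtain ⟨hW', hpo⟩ := isPushout_appLE hc hV hW hV' e e'
  letI : Algebra Γ(S, V) Γ(X, W) := (f.appLE V W e).hom.toAlgebra
  letI : Algebra Γ(S, V) Γ(S', V') := (q.appLE V V' e').hom.toAlgebra
  letI : Algebra Γ(X, W) Γ(X', g' ⁻¹ᵁ W ⊓ f' ⁻¹ᵁ V') :=
    (g'.appLE W _ inf_le_left).hom.toAlgebra
  letI : Algebra Γ(S', V') Γ(X', g' ⁻¹ᵁ W ⊓ f' ⁻¹ᵁ V') :=
    (f'.appLE V' _ inf_le_right).hom.toAlgebra
  letI : Algebra Γ(S, V) Γ(X', g' ⁻¹ᵁ W ⊓ f' ⁻¹ᵁ V') :=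
    ((g'.appLE W _ inf_le_left).hom.comp (f.appLE V W e).hom).toAlgebra
  haveI : IsScalarTower Γ(S, V) Γ(X, W) Γ(X', g' ⁻¹ᵁ W ⊓ f' ⁻¹ᵁ V') :=
    .of_algebraMap_eq fun _ => rfl
  haveI : IsScalarTower Γ(S, V) Γ(S', V') Γ(X', g' ⁻¹ᵁ W ⊓ f' ⁻¹ᵁ V') :=
    .of_algebraMap_eq' (by
      show ((f.appLE V W e) ≫ g'.appLE W _ inf_le_left).hom =
        ((q.appLE V V' e') ≫ f'.appLE V' _ inf_le_right).hom
      simp only [Scheme.Hom.appLE_comp_appLE, hc.w])
  haveI := hpo.symm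
  let ε : Γ(X, W) ⊗[Γ(S, V)] Γ(S', V') ≃ₐ[Γ(X, W)] Γ(X', g' ⁻¹ᵁ W ⊓ f' ⁻¹ᵁ V') :=
    Algebra.IsPushout.equiv Γ(S, V) Γ(X, W) Γ(S', V') _
  letI := Module.compHom Γ((Scheme.Modules.pullback g').obj F, g' ⁻¹ᵁ W ⊓ f' ⁻¹ᵁ V')
    (g'.appLE W (g' ⁻¹ᵁ W ⊓ f' ⁻¹ᵁ V') inf_le_left).hom
  haveI : IsScalarTower Γ(X, W) Γ(X', g' ⁻¹ᵁ W ⊓ f' ⁻¹ᵁ V')
      Γ((Scheme.Modules.pullback g').obj F, g' ⁻¹ᵁ W ⊓ f' ⁻¹ᵁ V') :=
    .of_algebraMap_smul fun _ _ => rfl
  have hb := isBaseChange_pullMapL g' F hW hW' (inf_le_left (b := f' ⁻¹ᵁ V'))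
  exact ⟨fun h => h.to_tensor ε hb, fun h => h.of_isBaseChange ε hb⟩

variable (q) in
theorem mdense_pullback_of_fibres
    (hfp : ∀ {V : S.Opens} {W : X.Opens}, IsAffineOpen V → IsAffineOpen W → ∀ e : W ≤ f ⁻¹ᵁ V,
      (f.appLE V W e).hom.FinitePresentation)
    (hMfp : ∀ {W : X.Opens}, IsAffineOpen W → Module.FinitePresentation Γ(X, W) Γ(F, W))
    (hflat : ∀ {V : S.Opens} {W : X.Opens}, IsAffineOpen V → IsAffineOpen W → ∀ e : W ≤ f ⁻¹ᵁ V,
      letI := Module.compHom Γ(F, W) (f.appLE V W e).hom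
      Module.Flat Γ(S, V) Γ(F, W))
    (h : ∀ s : S, MDense ((Scheme.Modules.pullback (f.fiberι s)).obj F) ((f.fiberι s) ⁻¹ᵁ U)) :
    MDense ((Scheme.Modules.pullback (pullback.fst f q)).obj F) ((pullback.fst f q) ⁻¹ᵁ U) := by
  haveI := isQCoh_pullback (pullback.fst f q) F
  refine mdense_of_cover fun x' => ?_
  have hcc := IsPullback.of_hasPullback f q
  obtain ⟨V, W, V', hV, hW, hV', e, e', hxW, hxV'⟩ := exists_affines hcc x'
  obtain ⟨hW', -⟩ := isPushout_appLE hcc hV hW hV' e e'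
  refine ⟨_, cut (U := U) W,
    fun r => (pullback.fst f q).appLE W (pullback.fst f q ⁻¹ᵁ W ⊓ pullback.snd f q ⁻¹ᵁ V')
      inf_le_left r.1, hW', ⟨hxW, hxV'⟩, fun r => ?_, ?_⟩
  · rw [Scheme.basicOpen_appLE]
    exact inf_le_right.trans ((pullback.fst f q).preimage_mono r.2)
  refine (powSep_baseChange_iff hcc hV hW hV' e e' _).2 ?_
  letI : Algebra Γ(S, V) Γ(X, W) := (f.appLE V W e).hom.toAlgebra
  letI : Algebra Γ(S, V) Γ(S', V') := (q.appLE V V' e').hom.toAlgebra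
  letI : Module Γ(S, V) Γ(F, W) := Module.compHom _ (f.appLE V W e).hom
  haveI : IsScalarTower Γ(S, V) Γ(X, W) Γ(F, W) := .of_algebraMap_smul fun _ _ => rfl
  haveI : Algebra.FinitePresentation Γ(S, V) Γ(X, W) := hfp hV hW e
  haveI := hMfp hW
  haveI : Module.Flat Γ(S, V) Γ(F, W) := hflat hV hW e
  refine powSep_baseChange_of_fibres (M := Γ(F, W)) _ (fun P hP => ?_) _
  let s : S := hV.fromSpec ⟨P, hP⟩
  have e₀ : (⊤ : (Spec (S.residueField s)).Opens) ≤ S.fromSpecResidueField s ⁻¹ᵁ V := fun z _ => by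
    show S.fromSpecResidueField s z ∈ V
    rw [Scheme.fromSpecResidueField_apply]
    exact hV.range_fromSpec.le ⟨_, rfl⟩
  have hcs := IsPullback.of_hasPullback f (S.fromSpecResidueField s)
  obtain ⟨hWs, -⟩ := isPushout_appLE hcs hV hW (isAffineOpen_top _) e e₀
  haveI := isQCoh_pullback (pullback.fst f (S.fromSpecResidueField s)) F
  have hd : MDense ((Scheme.Modules.pullback (pullback.fst f (S.fromSpecResidueField s))).obj F)
      ((pullback.fst f (S.fromSpecResidueField s)) ⁻¹ᵁ U) := h s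
  have hps := (powSep_baseChange_iff hcs hV hW (isAffineOpen_top _) e e₀
    (fun r : cut (U := U) W => r.1)).1 (hd.powSep hWs _ fun z hz hzU => by
      obtain ⟨r, hr⟩ := exists_cut U hW _ hz.1 hzU
      refine ⟨r, ?_⟩
      rw [Scheme.basicOpen_appLE]
      exact ⟨hz, hr⟩)
  letI : Algebra Γ(S, V) Γ(Spec (S.residueField s), ⊤) :=
    ((S.fromSpecResidueField s).appLE V ⊤ e₀).hom.toAlgebra
  letI : Field Γ(Spec (S.residueField s), ⊤) := (MulEquiv.isField (Field.toIsField _)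
    (Scheme.ΓSpecIso (S.residueField s)).commRingCatIsoToRingEquiv.toMulEquiv).toField
  have hker : RingHom.ker (algebraMap Γ(S, V) Γ(Spec (S.residueField s), ⊤)) = P := by
    let z : ↥(Spec (S.residueField s)) := IsLocalRing.closedPoint _
    have hz : ((isAffineOpen_top _).primeIdealOf
        ⟨z, show z ∈ (⊤ : (Spec (S.residueField s)).Opens) from trivial⟩).asIdeal = ⊥ :=
      (Ideal.eq_bot_or_top _).resolve_right Ideal.IsPrime.ne_top'
    have hcm := congrArg PrimeSpectrum.asIdeal (IsAffineOpen.comap_primeIdealOf_appLE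
      (f := S.fromSpecResidueField s) V hV ⊤ (isAffineOpen_top _) e₀ (x := z) trivial)
    rw [RingHom.ker_eq_comap_bot, ← hz]
    refine hcm.trans ?_
    have : hV.primeIdealOf ⟨S.fromSpecResidueField s z, e₀ trivial⟩ = ⟨P, hP⟩ :=
      hV.fromSpec.isOpenEmbedding.injective ((hV.fromSpec_primeIdealOf _).trans
        (Scheme.fromSpecResidueField_apply s z))
    rw [this]
  let ψ : P.ResidueField →ₐ[Γ(S, V)] Γ(Spec (S.residueField s), ⊤) :=
    Ideal.ResidueField.liftₐ P (Algebra.ofId Γ(S, V) _) (fun a ha => hker.ge ha) fun a ha =>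
      isUnit_iff_ne_zero.2 fun h0 => ha (hker.le h0)
  letI : Algebra P.ResidueField Γ(Spec (S.residueField s), ⊤) := ψ.toRingHom.toAlgebra
  haveI : IsScalarTower Γ(S, V) P.ResidueField Γ(Spec (S.residueField s), ⊤) :=
    .of_algebraMap_eq fun a => (ψ.commutes a).symm
  refine (fibre_sep_iff _ P.ResidueField Γ(Spec (S.residueField s), ⊤)).1 fun y hy => ?_
  refine hps.eq_zero fun i => ?_
  obtain ⟨n, hn⟩ := hy i
  exact ⟨n, by rw [← map_pow, algebraMap_smul]; exact hn⟩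

end Groth.Agent.SepLib
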