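import Mathlib
import Groth.Agent.SepLib.ModuleRows

/-!
Separating families over an affine base.
-/

set_option autoImplicit false
set_option linter.style.haveILetI false
set_option backward.isDefEq.respectTransparency false

universe u

open CategoryTheory CategoryTheory.Limits AlgebraicGeometry TopologicalSpace Opposite TensorProduct
open Groth.Agent.CohBase Groth.Agent.QCohLib Groth.Agent.PullbackMod

namespace Groth.Agent.SepLib

variable {X : Scheme.{u}} {A A' : CommRingCat.{u}} (p : X ⟶ Spec A) (φ : A ⟶ A')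
  {F : X.Modules} [Coh.IsQCoh F] {ι : Type u} {G : ι → X.Modules} [∀ i, Coh.IsQCoh (G i)]
  (u : ∀ i, F ⟶ G i)

/-- The ring of the base acting on the functions over an open of `X`. -/
noncomputable abbrev baseHom (W : X.Opens) : A ⟶ Γ(X, W) :=
  (Scheme.ΓSpecIso A).inv ≫ p.appLE ⊤ W le_top

theorem nonempty_baseEquiv (W : X.Opens) :
    letI : Algebra A Γ(X, W) := (baseHom p W).hom.toAlgebra
    letI : Algebra A A' := φ.hom.toAlgebra
    letI : Algebra Γ(Spec A, ⊤) Γ(X, W) := (p.appLE ⊤ W le_top).hom.toAlgebra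
    letI : Algebra Γ(Spec A, ⊤) Γ(Spec A', ⊤) := ((Spec.map φ).appLE ⊤ ⊤ le_top).hom.toAlgebra
    Nonempty (Γ(X, W) ⊗[Γ(Spec A, ⊤)] Γ(Spec A', ⊤) ≃ₐ[Γ(X, W)] Γ(X, W) ⊗[A] A') := by
  letI : Algebra A Γ(X, W) := (baseHom p W).hom.toAlgebra
  letI : Algebra A A' := φ.hom.toAlgebra
  letI : Algebra Γ(Spec A, ⊤) Γ(X, W) := (p.appLE ⊤ W le_top).hom.toAlgebra
  letI : Algebra Γ(Spec A, ⊤) Γ(Spec A', ⊤) := ((Spec.map φ).appLE ⊤ ⊤ le_top).hom.toAlgebra
  refine nonempty_tensorCongrBase (Scheme.ΓSpecIso A).commRingCatIsoToRingEquiv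
    (Scheme.ΓSpecIso A').commRingCatIsoToRingEquiv (fun a => ?_) fun a => ?_
  · show p.appLE ⊤ W le_top a =
      p.appLE ⊤ W le_top ((Scheme.ΓSpecIso A).inv ((Scheme.ΓSpecIso A).hom a))
    exact (congrArg _ ((Scheme.ΓSpecIso A).commRingCatIsoToRingEquiv.symm_apply_apply a)).symm
  · show (Scheme.ΓSpecIso A').hom ((Spec.map φ).appLE ⊤ ⊤ le_top a) = φ ((Scheme.ΓSpecIso A).hom a)
    rw [← CommRingCat.comp_apply, ← CommRingCat.comp_apply, ← Scheme.ΓSpecIso_naturality φ]
    rw [Scheme.Hom.appLE]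
    simp [Scheme.Hom.appTop]

theorem sepBC_of_msep_spec {W : X.Opens} (hW : IsAffineOpen W)
    (h : MSep fun i => (Scheme.Modules.pullback (pullback.fst p (Spec.map φ))).map (u i)) :
    letI : Algebra A Γ(X, W) := (baseHom p W).hom.toAlgebra
    letI : Algebra A A' := φ.hom.toAlgebra
    SepBC (R := Γ(X, W)) (M := Γ(F, W)) (G := fun i => Γ(G i, W)) (fun i => appLin (u i) W)
      (Γ(X, W) ⊗[A] A') := by
  letI : Algebra A Γ(X, W) := (baseHom p W).hom.toAlgebra
  letI : Algebra A A' := φ.hom.toAlgebra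
  haveI := isQCoh_pullback (pullback.fst p (Spec.map φ)) F
  haveI := fun i => isQCoh_pullback (pullback.fst p (Spec.map φ)) (G i)
  have hc := IsPullback.of_hasPullback p (Spec.map φ)
  have hsep := (sep_baseChange_iff u (pullback.fst p (Spec.map φ)) hc (isAffineOpen_top _) hW
    (isAffineOpen_top _) le_top le_top).1
    (h.sep (isPushout_appLE hc (isAffineOpen_top _) hW (isAffineOpen_top _) le_top le_top).1)
  obtain ⟨e⟩ := nonempty_baseEquiv p φ W
  exact Sep.baseChange_congr e hsep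

variable {u} in
theorem msep_spec_of_sepBC
    (H : ∀ {W : X.Opens} (_ : IsAffineOpen W),
      letI : Algebra A Γ(X, W) := (baseHom p W).hom.toAlgebra
      letI : Algebra A A' := φ.hom.toAlgebra
      SepBC (R := Γ(X, W)) (M := Γ(F, W)) (G := fun i => Γ(G i, W)) (fun i => appLin (u i) W)
        (Γ(X, W) ⊗[A] A')) :
    MSep fun i => (Scheme.Modules.pullback (pullback.fst p (Spec.map φ))).map (u i) := by
  haveI := isQCoh_pullback (pullback.fst p (Spec.map φ)) F
  haveI := fun i => isQCoh_pullback (pullback.fst p (Spec.map φ)) (G i)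
  refine msep_of_cover fun x' => ?_
  obtain ⟨_, ⟨W : X.Opens, (hW : IsAffineOpen W), rfl⟩, hxW, -⟩ :=
    X.isBasis_affineOpens.exists_subset_of_mem_open
      (Set.mem_univ (pullback.fst p (Spec.map φ) x')) isOpen_univ
  have hc := IsPullback.of_hasPullback p (Spec.map φ)
  refine ⟨_, (isPushout_appLE hc (isAffineOpen_top _) hW (isAffineOpen_top _) le_top le_top).1,
    ⟨hxW, trivial⟩, (sep_baseChange_iff u (pullback.fst p (Spec.map φ)) hc (isAffineOpen_top _) hW
      (isAffineOpen_top _) le_top le_top).2 ?_⟩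
  obtain ⟨e⟩ := nonempty_baseEquiv p φ W
  exact Sep.baseChange_congr e.symm (H hW)

theorem flat_sections_base (M : X.Modules) [Coh.IsQCoh M] (hM : FlatMod.IsFlatOver p M)
    {W : X.Opens} (hW : IsAffineOpen W) :
    letI := Module.compHom Γ(M, W) (baseHom p W).hom
    Module.Flat A Γ(M, W) := by
  letI := Module.compHom Γ(M, W) (baseHom p W).hom
  letI := Module.compHom Γ(M, W) (p.appLE ⊤ W le_top).hom
  haveI : Module.Flat Γ(Spec A, ⊤) Γ(M, W) := flat_sections M hM (isAffineOpen_top _) hW le_top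
  letI : Algebra A Γ(Spec A, ⊤) := (Scheme.ΓSpecIso A).inv.hom.toAlgebra
  haveI : IsScalarTower A Γ(Spec A, ⊤) Γ(M, W) := .of_algebraMap_smul fun _ _ => rfl
  haveI : Module.Flat A Γ(Spec A, ⊤) :=
    RingHom.Flat.of_bijective (f := (Scheme.ΓSpecIso A).inv.hom)
      (ConcreteCategory.bijective_of_isIso (Scheme.ΓSpecIso A).inv)
  exact Module.Flat.trans A Γ(Spec A, ⊤) Γ(M, W)

variable (hG : ∀ i, FlatMod.IsFlatOver p (G i))
include hG

theorem msep_of_finiteType_stages (hfg : ∀ (B : CommRingCat.{u}) (a : A ⟶ B) (b : B ⟶ A'),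
      a ≫ b = φ → Function.Injective b.hom → a.hom.FiniteType →
        MSep fun i => (Scheme.Modules.pullback (pullback.fst p (Spec.map a))).map (u i)) :
    MSep fun i => (Scheme.Modules.pullback (pullback.fst p (Spec.map φ))).map (u i) := by
  refine msep_spec_of_sepBC p φ fun {W} hW => ?_
  letI : Algebra A Γ(X, W) := (baseHom p W).hom.toAlgebra
  letI : Algebra A A' := φ.hom.toAlgebra
  letI : Module A Γ(F, W) := Module.compHom _ (baseHom p W).hom
  haveI : IsScalarTower A Γ(X, W) Γ(F, W) := .of_algebraMap_smul fun _ _ => rfl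
  letI : ∀ i, Module A Γ(G i, W) := fun i => Module.compHom _ (baseHom p W).hom
  haveI : ∀ i, IsScalarTower A Γ(X, W) Γ(G i, W) := fun i => .of_algebraMap_smul fun _ _ => rfl
  haveI : ∀ i, Module.Flat A Γ(G i, W) := fun i => flat_sections_base p (G i) (hG i) hW
  refine sep_baseChange_of_subalgebras A' fun T hT => ?_
  exact sepBC_of_msep_spec p (CommRingCat.ofHom (algebraMap A T)) u hW
    (hfg (CommRingCat.of T) (CommRingCat.ofHom (algebraMap A T)) (CommRingCat.ofHom T.val.toRingHom)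
      rfl Subtype.val_injective
      (RingHom.finiteType_algebraMap.2 ((Subalgebra.fg_iff_finiteType _).1 hT)))

theorem msep_of_nilpotent (J : Ideal ↑A) (hJ : IsNilpotent J)
    (hfree : ∀ k : ℕ, Module.Free (↑A ⧸ J) ((↑A ⧸ J) ⊗[↑A] ↥(J ^ k)))
    (h0 : MSep fun i => (Scheme.Modules.pullback
      (pullback.fst p (Spec.map (CommRingCat.ofHom (Ideal.Quotient.mk J))))).map (u i)) :
    MSep u := by
  refine msep_of_cover fun x => ?_
  obtain ⟨_, ⟨W : X.Opens, (hW : IsAffineOpen W), rfl⟩, hxW, -⟩ :=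
    X.isBasis_affineOpens.exists_subset_of_mem_open (Set.mem_univ x) isOpen_univ
  refine ⟨W, hW, hxW, ?_⟩
  letI : Algebra A Γ(X, W) := (baseHom p W).hom.toAlgebra
  letI : Module A Γ(F, W) := Module.compHom _ (baseHom p W).hom
  haveI : IsScalarTower A Γ(X, W) Γ(F, W) := .of_algebraMap_smul fun _ _ => rfl
  letI : ∀ i, Module A Γ(G i, W) := fun i => Module.compHom _ (baseHom p W).hom
  haveI : ∀ i, IsScalarTower A Γ(X, W) Γ(G i, W) := fun i => .of_algebraMap_smul fun _ _ => rfl
  haveI : ∀ i, Module.Flat A Γ(G i, W) := fun i => flat_sections_base p (G i) (hG i) hW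
  exact sep_of_quotient_of_nilpotent J hJ hfree
    (sepBC_of_msep_spec p (CommRingCat.ofHom (Ideal.Quotient.mk J)) u hW h0)

end Groth.Agent.SepLib
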