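import Mathlib
import Groth.Agent.SepLib.MDense
import Groth.Agent.QCohLib.FPSections
import Groth.Prelude.Def_CInt

/-!
Universally schematically dense opens.
-/

set_option autoImplicit false
set_option linter.style.haveILetI false
set_option backward.isDefEq.respectTransparency false

universe u

open CategoryTheory CategoryTheory.Limits AlgebraicGeometry TopologicalSpace Opposite TensorProduct
open Groth.Agent.CohBase Groth.Agent.QCohLib Groth.Agent.PullbackMod

namespace Groth.Agent.SepLib

variable {X S : Scheme.{u}} (f : X ⟶ S)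

theorem finitePresentation_appLE_hom [LocallyOfFinitePresentation f] {V : S.Opens} {W : X.Opens}
    (hV : IsAffineOpen V) (hW : IsAffineOpen W) (e : W ≤ f ⁻¹ᵁ V) :
    (f.appLE V W e).hom.FinitePresentation :=
  f.finitePresentation_appLE hV hW e

theorem univ_mdense_iff_fibrewise [LocallyOfFinitePresentation f] (F : X.Modules) [Coh.IsQCoh F]
    (hF : CohB1.IsFP F) (hflat : FlatMod.IsFlatOver f F) (U : X.Opens) :
    (∀ (S' : Scheme.{u}) (g : S' ⟶ S),
      MDense ((Scheme.Modules.pullback (pullback.fst f g)).obj F) ((pullback.fst f g) ⁻¹ᵁ U)) ↔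
    ∀ s : S, MDense ((Scheme.Modules.pullback (f.fiberι s)).obj F) ((f.fiberι s) ⁻¹ᵁ U) :=
  ⟨fun h s => h _ (S.fromSpecResidueField s), fun h _ g => mdense_pullback_of_fibres g
    (finitePresentation_appLE_hom f)
    (fun hW => finitePresentation_sections F hF hW)
    (fun hV hW e => flat_sections F hflat hV hW e) h⟩

instance final_opensMap {X' : Scheme.{u}} (g : X' ⟶ X) : (Opens.map g.base).Final := ⟨fun W => by
    let t : StructuredArrow W (Opens.map g.base) :=
      StructuredArrow.mk (Y := (⊤ : X.Opens)) (homOfLE le_top)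
    have : Nonempty (StructuredArrow W (Opens.map g.base)) := ⟨t⟩
    refine zigzag_isConnected fun a b => ?_
    exact (Zigzag.of_hom (StructuredArrow.homMk (homOfLE le_top) (Subsingleton.elim _ _) : a ⟶ t)).trans
      (Zigzag.of_inv (StructuredArrow.homMk (homOfLE le_top) (Subsingleton.elim _ _) : b ⟶ t))⟩

/-- The inverse image of the structure sheaf. -/
noncomputable def pullStructure {X' : Scheme.{u}} (g : X' ⟶ X) :
    (Scheme.Modules.pullback g).obj (Coh.structureModule X) ≅ Coh.structureModule X' :=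
  have : (SheafOfModules.pushforward g.toRingCatSheafHom).IsRightAdjoint :=
    (Scheme.Modules.pullbackPushforwardAdjunction g).isRightAdjoint
  have h : IsIso (SheafOfModules.pullbackObjUnitToUnit g.toRingCatSheafHom) :=
    @SheafOfModules.instIsIsoPullbackObjUnitToUnitOfFinal _ _ _ _ _ _ (Opens.map g.base) _ _ _
      g.toRingCatSheafHom _ _
  @asIso _ _ _ _ (SheafOfModules.pullbackObjUnitToUnit g.toRingCatSheafHom) h

theorem mdense_iff_of_iso {F G : X.Modules} (φ : F ⟶ G) [IsIso φ] (U : X.Opens) :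
    MDense F U ↔ MDense G U := by
  refine forall_congr' fun V => ?_
  haveI : IsIso φ.mapPresheaf := inferInstanceAs (IsIso ((Scheme.Modules.toPresheaf X).map φ))
  haveI : ∀ W : X.Opens, IsIso (φ.mapPresheaf.app (op W)) := fun W => inferInstance
  have hbij : ∀ W : X.Opens, Function.Bijective (φ.mapPresheaf.app (op W)) := fun W =>
    ConcreteCategory.bijective_of_isIso _
  have hsq : (G.presheaf.map (homOfLE (inf_le_left : V ⊓ U ≤ V)).op : _ → _) ∘
      φ.mapPresheaf.app (op V) =
      (φ.mapPresheaf.app (op (V ⊓ U)) : _ → _) ∘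
        F.presheaf.map (homOfLE (inf_le_left : V ⊓ U ≤ V)).op :=
    funext fun t => (ConcreteCategory.congr_hom
      (φ.mapPresheaf.naturality (homOfLE (inf_le_left : V ⊓ U ≤ V)).op) t).symm
  rw [← Function.Injective.of_comp_iff (hbij (V ⊓ U)).injective, ← hsq]
  exact Function.Injective.of_comp_iff' _ (hbij V)

theorem isSchematicallyDense_iff_mdense (U : X.Opens) :
    CInt.IsSchematicallyDense U ↔ MDense (Coh.structureModule X) U :=
  Iff.rfl

theorem isSchematicallyDense_preimage_iff {X' : Scheme.{u}} (g : X' ⟶ X) (U : X.Opens) :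
    CInt.IsSchematicallyDense (g ⁻¹ᵁ U) ↔
      MDense ((Scheme.Modules.pullback g).obj (Coh.structureModule X)) (g ⁻¹ᵁ U) :=
  (mdense_iff_of_iso (pullStructure g).hom _).symm

theorem univ_schDense_iff_fibrewise [Flat f] [LocallyOfFinitePresentation f] (U : X.Opens) :
    (∀ (S' : Scheme.{u}) (g : S' ⟶ S), CInt.IsSchematicallyDense ((pullback.fst f g) ⁻¹ᵁ U)) ↔
      ∀ s : S, CInt.IsSchematicallyDense ((f.fiberι s) ⁻¹ᵁ U) := by
  simp only [isSchematicallyDense_preimage_iff]
  refine ⟨fun h s => h _ (S.fromSpecResidueField s), fun h S' g => mdense_pullback_of_fibres g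
    (finitePresentation_appLE_hom f) (fun {W} _ => ?_) (fun {V W} hV hW e => ?_) h⟩
  · exact (inferInstance : Module.FinitePresentation Γ(X, W) Γ(X, W))
  · letI : Algebra Γ(S, V) Γ(X, W) := (f.appLE V W e).hom.toAlgebra
    exact (HasRingHomProperty.appLE @Flat f inferInstance ⟨V, hV⟩ ⟨W, hW⟩ e :
      Module.Flat Γ(S, V) Γ(X, W))

theorem isSchematicallyDense_preimage {X' : Scheme.{u}} (g : X' ⟶ X) [Flat g]
    [LocallyOfFinitePresentation g] {V : X.Opens} (hV : CInt.IsSchematicallyDense V) :
    CInt.IsSchematicallyDense (g ⁻¹ᵁ V) := by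
  rw [isSchematicallyDense_preimage_iff]
  haveI := isQCoh_pullback g (Coh.structureModule X)
  refine mdense_of_cover fun x' => ?_
  obtain ⟨W, W', hW, hW', hx', e⟩ := exists_affine_pair g x'
  refine ⟨W', cut (U := V) W, fun r => g.appLE W W' e r.1, hW', hx', fun r => ?_, ?_⟩
  · rw [Scheme.basicOpen_appLE]
    exact inf_le_right.trans (g.preimage_mono r.2)
  have hsep := ((isSchematicallyDense_iff_mdense V).1 hV).powSep (F := Coh.structureModule X) hW
    (fun r : cut (U := V) W => r.1) (exists_cut V hW)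
  letI : Algebra Γ(X, W) Γ(X', W') := (g.appLE W W' e).hom.toAlgebra
  haveI : Module.Flat Γ(X, W) Γ(X', W') :=
    HasRingHomProperty.appLE @Flat g inferInstance ⟨W, hW⟩ ⟨W', hW'⟩ e
  haveI : Algebra.FinitePresentation Γ(X, W) Γ(X', W') := g.finitePresentation_appLE hW hW' e
  letI := Module.compHom Γ((Scheme.Modules.pullback g).obj (Coh.structureModule X), W')
    (g.appLE W W' e).hom
  haveI : IsScalarTower Γ(X, W) Γ(X', W')
      Γ((Scheme.Modules.pullback g).obj (Coh.structureModule X), W') :=
    .of_algebraMap_smul fun _ _ => rfl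
  refine PowSep.of_isBaseChange (AlgEquiv.refl) (isBaseChange_pullMapL g _ hW hW' e) ?_
  let u : ∀ r : cut (U := V) W, Γ(X, W) →ₗ[Γ(X, W)] Localization.Away r.1 :=
    fun r => Algebra.linearMap _ _
  have hu : Sep u := by
    intro a m hm
    refine hsep a m fun r => ?_
    obtain ⟨n, hn⟩ := hm r
    rw [← map_smul] at hn
    obtain ⟨⟨c, N, rfl⟩, hc⟩ := (IsLocalization.map_eq_zero_iff (Submonoid.powers r.1)
      (Localization.Away r.1) _).1 hn
    refine ⟨n + N, ?_⟩
    have hc' : r.1 ^ N * (a ^ n * m) = 0 := hc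
    show (a * r.1) ^ (n + N) * m = 0
    rw [mul_pow, pow_add a, pow_add r.1]
    linear_combination (a ^ N * r.1 ^ n) * hc'
  intro a m hm
  refine hu.baseChange_of_flat_fp Γ(X', W') a (m : Γ(X', W') ⊗[Γ(X, W)] Γ(X, W)) fun r => ?_
  obtain ⟨n, hn⟩ := hm r
  refine ⟨n, ?_⟩
  have h1 : (u r).baseChange Γ(X', W') ((a * algebraMap Γ(X, W) Γ(X', W') r.1) ^ n • m) = 0 := by
    rw [show ((a * algebraMap Γ(X, W) Γ(X', W') r.1) ^ n • m :
      Γ(X', W') ⊗[Γ(X, W)] Γ(X, W)) = 0 from hn, map_zero]
  rw [mul_pow, ← map_pow, mul_comm, mul_smul, algebraMap_smul, LinearMap.map_smul_of_tower] at h1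
  have hunit : ∀ z : Γ(X', W') ⊗[Γ(X, W)] Localization.Away r.1, r.1 ^ n • z = 0 → z = 0 := by
    intro z hz
    have hcancel : ∀ z : Γ(X', W') ⊗[Γ(X, W)] Localization.Away r.1,
        (LinearMap.lsmul Γ(X, W) (Localization.Away r.1) (r.1 ^ n)).lTensor Γ(X', W') z =
          r.1 ^ n • z := by
      intro z
      induction z using TensorProduct.induction_on with
      | zero => simp
      | tmul b l => simp [TensorProduct.tmul_smul]
      | add x y hx hy => simp only [map_add, smul_add, hx, hy]
    have hb : Function.Bijective (LinearMap.lsmul Γ(X, W) (Localization.Away r.1) (r.1 ^ n)) :=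
      (Module.End.isUnit_iff _).1 ((IsLocalization.map_units (M := Submonoid.powers r.1)
        (Localization.Away r.1) ⟨_, n, rfl⟩).map (Algebra.lmul Γ(X, W) (Localization.Away r.1))
          |> fun h => by
            convert h using 1
            ext l
            simp [Algebra.smul_def])
    exact (LinearEquiv.lTensor Γ(X', W') (LinearEquiv.ofBijective _ hb)).map_eq_zero_iff.1
      ((hcancel z).trans hz)
  exact hunit _ ((congrArg (r.1 ^ n • ·) (map_smul _ (a ^ n) m)).symm.trans h1)

end Groth.Agent.SepLib
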