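import Mathlib
import Groth.Agent.SepLib.ModuleRows

/-!
Schematically dominant families of morphisms as separating families of restriction maps.
-/

set_option autoImplicit false
set_option linter.style.haveILetI false
set_option backward.isDefEq.respectTransparency false

universe u

open CategoryTheory CategoryTheory.Limits AlgebraicGeometry TopologicalSpace Opposite TensorProduct
open Groth.Agent.CohBase Groth.Agent.QCohLib Groth.Agent.PullbackMod

namespace Groth.Agent.SepLib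

variable {X : Scheme.{u}} {ι : Type u} {Z : ι → Scheme.{u}} (f : ∀ i, Z i ⟶ X)

/-- A family of morphisms is schematically dominant. -/
def Dom : Prop :=
  ∀ (V : X.Opens) (t : Γ(X, V)), (∀ i, (f i).app V t = 0) → t = 0

variable {W : X.Opens} {K : ι → Type u} {P : ∀ i, K i → (Z i).Opens}
  (eP : ∀ i k, P i k ≤ f i ⁻¹ᵁ W)

/-- The restriction maps to the given pieces are separating on every basic open of `W`. -/
def DomSep : Prop :=
  ∀ (a m : Γ(X, W)), (∀ i k, ∃ n : ℕ, (f i).appLE W (P i k) (eP i k) (a ^ n * m) = 0) →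
    ∃ n : ℕ, a ^ n * m = 0

theorem appLE_eq_zero {Y : Scheme.{u}} (g : Y ⟶ X) {V : X.Opens} {Q : Y.Opens} (e : Q ≤ g ⁻¹ᵁ V)
    {t : Γ(X, V)} (ht : g.app V t = 0) : g.appLE V Q e t = 0 :=
  (congrArg (Y.presheaf.map (homOfLE e).op) ht).trans (map_zero _)

variable {f} in
theorem Dom.domSep (h : Dom f) (hW : IsAffineOpen W)
    (hcov : ∀ i (z : Z i), f i z ∈ W → ∃ k, z ∈ P i k) : DomSep f eP := by
  intro a m hm
  have h0 : X.presheaf.map (homOfLE (X.basicOpen_le a)).op m = 0 := by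
    refine h _ _ fun i => TopCat.Presheaf.section_ext (Z i).sheaf _ _ 0 fun z hz => ?_
    obtain ⟨k, hk⟩ := hcov i z (X.basicOpen_le a hz)
    obtain ⟨n, hn⟩ := hm i k
    let O : (Z i).Opens := P i k ⊓ f i ⁻¹ᵁ X.basicOpen a
    have hO : O ≤ f i ⁻¹ᵁ W := inf_le_left.trans (eP i k)
    have h1 : (f i).appLE W O hO (a ^ n * m) = 0 := by
      rw [← (f i).appLE_map (eP i k) (homOfLE (inf_le_left : O ≤ P i k)).op]
      exact (congrArg ((Z i).presheaf.map (homOfLE (inf_le_left : O ≤ P i k)).op) hn).trans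
        (map_zero _)
    rw [← (f i).map_appLE (inf_le_right : O ≤ f i ⁻¹ᵁ X.basicOpen a)
      (homOfLE (X.basicOpen_le a)).op, CommRingCat.comp_apply, map_mul, map_pow, map_mul,
      map_pow] at h1
    have hu : IsUnit ((f i).appLE (X.basicOpen a) O inf_le_right
        (X.presheaf.map (homOfLE (X.basicOpen_le a)).op a)) :=
      (X.toRingedSpace.isUnit_res_basicOpen a).map _
    have h2 : (Z i).presheaf.map (homOfLE (inf_le_right : O ≤ f i ⁻¹ᵁ X.basicOpen a)).op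
        ((f i).app (X.basicOpen a) (X.presheaf.map (homOfLE (X.basicOpen_le a)).op m)) = 0 :=
      (hu.pow n).mul_right_eq_zero.1 h1
    show (Z i).presheaf.germ _ z hz _ = (Z i).presheaf.germ _ z hz 0
    rw [map_zero, ← (Z i).presheaf.germ_res_apply
      (homOfLE (inf_le_right : O ≤ f i ⁻¹ᵁ X.basicOpen a)) z ⟨hk, hz⟩, h2, map_zero]
  haveI := hW.isLocalization_basicOpen a
  obtain ⟨⟨c, n, rfl⟩, hc⟩ := (IsLocalization.map_eq_zero_iff (Submonoid.powers a)
    Γ(X, X.basicOpen a) m).1 h0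
  exact ⟨n, hc⟩

theorem dom_of_cover
    (h : ∀ x : X, ∃ (W : X.Opens) (K : ι → Type u) (P : ∀ i, K i → (Z i).Opens)
      (eP : ∀ i k, P i k ≤ f i ⁻¹ᵁ W), IsAffineOpen W ∧ (∀ i k, IsAffineOpen (P i k)) ∧ x ∈ W ∧
        DomSep f eP) :
    Dom f := by
  intro V t ht
  refine TopCat.Presheaf.section_ext X.sheaf V t 0 fun x hx => ?_
  obtain ⟨W, K, P, eP, hW, hP, hxW, hsep⟩ := h x
  obtain ⟨a, ha, hxa⟩ := hW.exists_basicOpen_le ⟨x, hx⟩ hxW
  haveI := hW.isLocalization_basicOpen a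
  obtain ⟨⟨m, ⟨c, n, rfl⟩⟩, hm⟩ := IsLocalization.surj (Submonoid.powers a)
    (X.presheaf.map (homOfLE ha).op t)
  obtain ⟨N, hN⟩ := hsep a m fun i k => by
    let Q : (Z i).Opens := (Z i).basicOpen ((f i).appLE W (P i k) (eP i k) a)
    have hQ : Q ≤ f i ⁻¹ᵁ X.basicOpen a :=
      (Scheme.basicOpen_appLE (f i) (P i k) W (eP i k) a).le.trans inf_le_right
    have hzero : (Z i).presheaf.map (homOfLE ((Z i).basicOpen_le _ : Q ≤ P i k)).op
        ((f i).appLE W (P i k) (eP i k) m) = 0 := by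
      rw [← CommRingCat.comp_apply, Scheme.Hom.appLE_map,
        ← (f i).map_appLE hQ (homOfLE (X.basicOpen_le a)).op, CommRingCat.comp_apply,
        show X.presheaf.map (homOfLE (X.basicOpen_le a)).op m = _ from hm.symm, map_mul,
        ← CommRingCat.comp_apply, Scheme.Hom.map_appLE, appLE_eq_zero (f i) _ (ht i), zero_mul]
    haveI := (hP i k).isLocalization_basicOpen ((f i).appLE W (P i k) (eP i k) a)
    obtain ⟨⟨c, N, rfl⟩, hc⟩ := (IsLocalization.map_eq_zero_iff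
      (Submonoid.powers ((f i).appLE W (P i k) (eP i k) a)) Γ(Z i, Q) _).1 hzero
    exact ⟨N, by rw [map_mul, map_pow]; exact hc⟩
  have h2 : X.presheaf.map (homOfLE ha).op t = 0 := by
    have h3 : X.presheaf.map (homOfLE (X.basicOpen_le a)).op (a ^ N * m) = 0 :=
      (congrArg _ hN).trans (map_zero _)
    rw [map_mul, map_pow, show X.presheaf.map (homOfLE (X.basicOpen_le a)).op m = _ from hm.symm,
      ← mul_assoc, mul_comm _ ((X.presheaf.map (homOfLE ha).op t)), mul_assoc] at h3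
    refine IsUnit.mul_left_eq_zero (IsUnit.mul ?_ ?_) |>.1 h3
    · exact (X.toRingedSpace.isUnit_res_basicOpen a).pow N
    · exact IsLocalization.map_units _ _
  show X.presheaf.germ V x hx t = X.presheaf.germ V x hx 0
  rw [map_zero, ← X.presheaf.germ_res_apply (homOfLE ha) x hxa t, h2, map_zero]

variable {X' : Scheme.{u}} (g : X' ⟶ X) {Z' : ι → Scheme.{u}} (g' : ∀ i, Z' i ⟶ Z i)
  (f' : ∀ i, Z' i ⟶ X') (hc : ∀ i, IsPullback (g' i) (f' i) (f i) g) {W' : X'.Opens}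

include hc in
/-- On a product of affine opens, domination after base change is separation after base change. -/
theorem domSep_baseChange_iff (hW : IsAffineOpen W) (hP : ∀ i k, IsAffineOpen (P i k))
    (hW' : IsAffineOpen W') (e : W' ≤ g ⁻¹ᵁ W) :
    letI : ∀ j : Σ i, K i, Algebra Γ(X, W) Γ(Z j.1, P j.1 j.2) := fun j =>
      ((f j.1).appLE W (P j.1 j.2) (eP j.1 j.2)).hom.toAlgebra
    letI : Algebra Γ(X, W) Γ(X', W') := (g.appLE W W' e).hom.toAlgebra
    DomSep f' (W := W') (P := fun i k => g' i ⁻¹ᵁ P i k ⊓ f' i ⁻¹ᵁ W')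
        (fun _ _ => inf_le_right) ↔
      SepBC (R := Γ(X, W)) (M := Γ(X, W)) (G := fun j : Σ i, K i => Γ(Z j.1, P j.1 j.2))
        (fun j => Algebra.linearMap Γ(X, W) Γ(Z j.1, P j.1 j.2)) Γ(X', W') := by
  letI inst1 : ∀ j : Σ i, K i, Algebra Γ(X, W) Γ(Z j.1, P j.1 j.2) := fun j =>
    ((f j.1).appLE W (P j.1 j.2) (eP j.1 j.2)).hom.toAlgebra
  letI inst2 : Algebra Γ(X, W) Γ(X', W') := (g.appLE W W' e).hom.toAlgebra
  let Q : ∀ j : Σ i, K i, (Z' j.1).Opens := fun j => g' j.1 ⁻¹ᵁ P j.1 j.2 ⊓ f' j.1 ⁻¹ᵁ W'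
  letI : ∀ j : Σ i, K i, Algebra Γ(Z j.1, P j.1 j.2) Γ(Z' j.1, Q j) := fun j =>
    ((g' j.1).appLE (P j.1 j.2) (Q j) inf_le_left).hom.toAlgebra
  letI : ∀ j : Σ i, K i, Algebra Γ(X', W') Γ(Z' j.1, Q j) := fun j =>
    ((f' j.1).appLE W' (Q j) inf_le_right).hom.toAlgebra
  letI : ∀ j : Σ i, K i, Algebra Γ(X, W) Γ(Z' j.1, Q j) := fun j =>
    (((g' j.1).appLE (P j.1 j.2) (Q j) inf_le_left).hom.comp
      ((f j.1).appLE W (P j.1 j.2) (eP j.1 j.2)).hom).toAlgebra
  haveI : ∀ j : Σ i, K i, IsScalarTower Γ(X, W) Γ(Z j.1, P j.1 j.2) Γ(Z' j.1, Q j) :=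
    fun j => .of_algebraMap_eq fun _ => rfl
  haveI : ∀ j : Σ i, K i, IsScalarTower Γ(X, W) Γ(X', W') Γ(Z' j.1, Q j) := fun j =>
    .of_algebraMap_eq' (by
      show ((f j.1).appLE W (P j.1 j.2) (eP j.1 j.2) ≫
          (g' j.1).appLE (P j.1 j.2) (Q j) inf_le_left).hom =
        (g.appLE W W' e ≫ (f' j.1).appLE W' (Q j) inf_le_right).hom
      simp only [Scheme.Hom.appLE_comp_appLE, (hc j.1).w])
  haveI : ∀ j : Σ i, K i, Algebra.IsPushout Γ(X, W) Γ(X', W') Γ(Z j.1, P j.1 j.2)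
      Γ(Z' j.1, Q j) := fun j =>
    (isPushout_appLE (hc j.1) hW (hP j.1 j.2) hW' (eP j.1 j.2) e).2
  let eG : ∀ j : Σ i, K i, Γ(X', W') ⊗[Γ(X, W)] Γ(Z j.1, P j.1 j.2) ≃ₐ[Γ(X', W')]
      Γ(Z' j.1, Q j) := fun j => Algebra.IsPushout.equiv Γ(X, W) Γ(X', W') _ _
  let eM : Γ(X', W') ⊗[Γ(X, W)] Γ(X, W) ≃ₗ[Γ(X', W')] Γ(X', W') :=
    AlgebraTensorModule.rid Γ(X, W) Γ(X', W') Γ(X', W')
  let v : ∀ j : Σ i, K i, Γ(X', W') →ₗ[Γ(X', W')] Γ(Z' j.1, Q j) := fun j =>
    Algebra.linearMap _ _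
  let ub := fun j : Σ i, K i =>
    (Algebra.linearMap Γ(X, W) Γ(Z j.1, P j.1 j.2)).baseChange Γ(X', W')
  have hnat : ∀ j z, v j (eM z) = eG j (ub j z) := by
    intro j z
    induction z using TensorProduct.induction_on with
    | zero => simp
    | tmul b r =>
      simp only [v, eM, ub, eG, AlgebraTensorModule.rid_tmul, Algebra.linearMap_apply,
        LinearMap.baseChange_tmul, Algebra.IsPushout.equiv_tmul, Algebra.smul_def, map_mul,
        ← IsScalarTower.algebraMap_apply]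
      exact mul_comm _ _
    | add x y hx hy => simp only [map_add, hx, hy]
  have key : DomSep f' (W := W') (P := fun i k => g' i ⁻¹ᵁ P i k ⊓ f' i ⁻¹ᵁ W')
      (fun _ _ => inf_le_right) ↔ Sep v := by
    refine forall₂_congr fun a m => ⟨fun h hm => h fun i k => ?_, fun h hm => h fun j => ?_⟩
    · obtain ⟨n, hn⟩ := hm ⟨i, k⟩
      exact ⟨n, (map_mul _ _ _).trans hn⟩
    · obtain ⟨n, hn⟩ := hm j.1 j.2
      exact ⟨n, (map_mul _ _ _).symm.trans hn⟩
  rw [key]
  exact ⟨Sep.of_equiv (RingEquiv.refl _) ub eM.symm.toAddEquiv (fun j => (eG j).symm.toAddEquiv)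
      (fun r m => map_smul eM.symm r m) (fun j r m => map_smul (eG j).symm r m)
      fun j m => (eG j).injective (by
        show eG j (ub j (eM.symm m)) = eG j ((eG j).symm (v j m))
        rw [← hnat, LinearEquiv.apply_symm_apply, AlgEquiv.apply_symm_apply]),
    Sep.of_equiv (RingEquiv.refl _) v eM.toAddEquiv (fun j => (eG j).toAddEquiv)
      (fun r m => map_smul eM r m) (fun j r m => map_smul (eG j) r m) hnat⟩

end Groth.Agent.SepLib
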