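import Mathlib
import Groth.Agent.SepLib.SchDom

/-!
Equivalent descriptions of schematically dominant families.
-/

set_option autoImplicit false
set_option linter.style.haveILetI false
set_option backward.isDefEq.respectTransparency false

universe u

open CategoryTheory CategoryTheory.Limits AlgebraicGeometry TopologicalSpace Opposite

namespace Groth.Agent.SepLib

variable {X S : Scheme.{u}} (p : X ⟶ S) {ι : Type u} {Z : ι → Scheme.{u}} (f : ∀ i, Z i ⟶ X)

theorem Dom.restrict (h : Dom f) (U : X.Opens) : Dom fun i => f i ∣_ U := by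
  intro V t ht
  refine h (U.ι ''ᵁ V) t fun i => ?_
  have h1 := ht i
  rw [morphismRestrict_app, CommRingCat.comp_apply] at h1
  exact (map_eq_zero_iff _ (ConcreteCategory.bijective_of_isIso _).injective).1 h1

theorem Dom.isIso_of_factor (h : Dom f) {Y : Scheme.{u}} (j : Y ⟶ X) [IsClosedImmersion j]
    (g : ∀ i, Z i ⟶ Y) (hg : ∀ i, g i ≫ j = f i) : IsIso j := by
  refine IsClosedImmersion.isIso_iff_ker_eq_bot.2
    (Scheme.IdealSheafData.ext (funext fun U => ?_))
  rw [Scheme.Hom.ker_apply, Scheme.IdealSheafData.ideal_bot]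
  refine (RingHom.ker_eq_bot_iff_eq_zero _).2 fun t ht => h _ t fun i => ?_
  rw [Scheme.Hom.congr_app (hg i).symm]
  simp [ht]

theorem tfae_dom : [Dom f,
    ∀ (U : X.Opens) (Y : Scheme.{u}) (j : Y ⟶ (U : Scheme.{u})), IsClosedImmersion j →
      (∀ i, ∃ g : ((f i) ⁻¹ᵁ U : Scheme.{u}) ⟶ Y, g ≫ j = (f i) ∣_ U) → IsIso j,
    ∀ (X' : Scheme.{u}) (q : X' ⟶ S), IsSeparated q → ∀ (U : X.Opens) (u v : (U : Scheme.{u}) ⟶ X'),
      u ≫ q = U.ι ≫ p → v ≫ q = U.ι ≫ p → (∀ i, ((f i) ∣_ U) ≫ u = ((f i) ∣_ U) ≫ v) → u = v].TFAE := by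
  tfae_have 1 → 2 := fun h U Y j _ hg =>
    (h.restrict f U).isIso_of_factor _ j (fun i => (hg i).choose) fun i => (hg i).choose_spec
  tfae_have 2 → 3 := by
    intro h X' q hq U a b ha hb hab
    let O : Over S := Over.mk (U.ι ≫ p)
    let O' : Over S := Over.mk q
    haveI : IsSeparated O'.hom := hq
    let a' : O ⟶ O' := Over.homMk a ha
    let b' : O ⟶ O' := Over.homMk b hb
    haveI : IsIso (equalizer.ι a' b').left := by
      refine h U _ (equalizer.ι a' b').left inferInstance fun i => ?_
      let P : Over S := Over.mk ((f i ∣_ U) ≫ U.ι ≫ p)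
      let e : P ⟶ O := Over.homMk (f i ∣_ U) rfl
      have he : e ≫ a' = e ≫ b' := by
        ext1
        exact hab i
      exact ⟨(equalizer.lift e he).left, congrArg CommaMorphism.left (equalizer.lift_ι e he)⟩
    refine (cancel_epi (equalizer.ι a' b').left).1 ?_
    exact congrArg CommaMorphism.left (equalizer.condition a' b')
  tfae_have 3 → 1 := by
    intro h V t ht
    let n := PUnit.{u + 1}
    let s : Γ((V : Scheme.{u}), ⊤) := V.topIso.inv t
    have key := h (AffineSpace n S) (AffineSpace n S ↘ S) inferInstance V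
      (AffineSpace.homOfVector (V.ι ≫ p) fun _ => s)
      (AffineSpace.homOfVector (V.ι ≫ p) fun _ => 0) (AffineSpace.homOfVector_over _ _)
      (AffineSpace.homOfVector_over _ _) fun i => by
        rw [AffineSpace.comp_homOfVector, AffineSpace.comp_homOfVector]
        congr 1
        funext k
        show (f i ∣_ V).appTop s = (f i ∣_ V).appTop 0
        have hs : (f i).app (V.ι ''ᵁ ⊤) s = 0 := by
          show (f i).app (V.ι ''ᵁ ⊤) (X.presheaf.map (eqToHom V.ι_image_top).op t) = 0
          rw [← CommRingCat.comp_apply, Scheme.Hom.naturality, CommRingCat.comp_apply, ht i,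
            map_zero]
        rw [morphismRestrict_appTop, map_zero, CommRingCat.comp_apply]
        exact (congrArg _ hs).trans (map_zero _)
    have h2 := congrArg (fun m => Scheme.Hom.appTop m (AffineSpace.coord S (PUnit.unit : n))) key
    exact (map_eq_zero_iff _ (ConcreteCategory.bijective_of_isIso V.topIso.inv).injective).1
      ((AffineSpace.homOfVector_appTop_coord (V.ι ≫ p) (fun _ => s) _).symm.trans
        (h2.trans (AffineSpace.homOfVector_appTop_coord _ _ _)))
  tfae_finish

end Groth.Agent.SepLib
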