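import Mathlib
import Groth.Agent.SepLib.SchDom

/-!
Base change of schematically dominant families.
-/

set_option autoImplicit false
set_option linter.style.haveILetI false
set_option backward.isDefEq.respectTransparency false

universe u

open CategoryTheory CategoryTheory.Limits AlgebraicGeometry TopologicalSpace Opposite TensorProduct
open Groth.Agent.CohBase Groth.Agent.QCohLib Groth.Agent.PullbackMod

namespace Groth.Agent.SepLib

variable {X : Scheme.{u}} {ι : Type u} {Z : ι → Scheme.{u}} (f : ∀ i, Z i ⟶ X)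

/-- The affine opens of the source lying over an open of the target. -/
abbrev AffOver (W : X.Opens) (i : ι) : Type u :=
  {P : (Z i).Opens // IsAffineOpen P ∧ P ≤ f i ⁻¹ᵁ W}

theorem exists_affOver {W : X.Opens} (i : ι) (z : Z i) (hz : f i z ∈ W) :
    ∃ k : AffOver f W i, z ∈ k.1 := by
  obtain ⟨_, ⟨P : (Z i).Opens, (hP : IsAffineOpen P), rfl⟩, hzP, hle⟩ :=
    (Z i).isBasis_affineOpens.exists_subset_of_mem_open (a := z) (u := ↑(f i ⁻¹ᵁ W)) hz
      (f i ⁻¹ᵁ W).2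
  exact ⟨⟨P, hP, hle⟩, hzP⟩

variable {f} in
theorem Dom.sep_affOver (h : Dom f) {W : X.Opens} (hW : IsAffineOpen W) :
    letI : ∀ j : Σ i, AffOver f W i, Algebra Γ(X, W) Γ(Z j.1, j.2.1) := fun j =>
      ((f j.1).appLE W j.2.1 j.2.2.2).hom.toAlgebra
    Sep (R := Γ(X, W)) (M := Γ(X, W)) (G := fun j : Σ i, AffOver f W i => Γ(Z j.1, j.2.1))
      fun j => Algebra.linearMap Γ(X, W) Γ(Z j.1, j.2.1) := by
  letI : ∀ j : Σ i, AffOver f W i, Algebra Γ(X, W) Γ(Z j.1, j.2.1) := fun j =>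
    ((f j.1).appLE W j.2.1 j.2.2.2).hom.toAlgebra
  intro a m hm
  refine h.domSep (K := AffOver f W) (P := fun _ k => k.1) (fun _ k => k.2.2) hW
    (exists_affOver f) a m fun i k => ?_
  obtain ⟨n, hn⟩ := hm ⟨i, k⟩
  exact ⟨n, (map_mul _ _ _).trans ((congrArg (· * _) (map_pow _ _ _)).trans
    (by rw [Algebra.linearMap_apply, Algebra.smul_def, map_pow] at hn; exact hn))⟩

variable {X' : Scheme.{u}} (g : X' ⟶ X) {Z' : ι → Scheme.{u}} (g' : ∀ i, Z' i ⟶ Z i)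
  (f' : ∀ i, Z' i ⟶ X') (hc : ∀ i, IsPullback (g' i) (f' i) (f i) g)

variable {g g' f'} in
include hc in
theorem dom_of_sepBC (H : ∀ x' : X', ∃ (W : X.Opens) (W' : X'.Opens) (e : W' ≤ g ⁻¹ᵁ W),
      IsAffineOpen W ∧ IsAffineOpen W' ∧ x' ∈ W' ∧
      (letI : ∀ j : Σ i, AffOver f W i, Algebra Γ(X, W) Γ(Z j.1, j.2.1) := fun j =>
        ((f j.1).appLE W j.2.1 j.2.2.2).hom.toAlgebra
      letI : Algebra Γ(X, W) Γ(X', W') := (g.appLE W W' e).hom.toAlgebra
      SepBC (R := Γ(X, W)) (M := Γ(X, W)) (G := fun j : Σ i, AffOver f W i => Γ(Z j.1, j.2.1))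
        (fun j => Algebra.linearMap Γ(X, W) Γ(Z j.1, j.2.1)) Γ(X', W'))) :
    Dom f' := by
  refine dom_of_cover f' fun x' => ?_
  obtain ⟨W, W', e, hW, hW', hx', hsep⟩ := H x'
  exact ⟨W', AffOver f W, fun i k => g' i ⁻¹ᵁ k.1 ⊓ f' i ⁻¹ᵁ W', fun _ _ => inf_le_right, hW',
    fun i k => (isPushout_appLE (hc i) hW k.2.1 hW' k.2.2 e).1, hx',
    (domSep_baseChange_iff f (K := AffOver f W) (P := fun _ k => k.1) (fun _ k => k.2.2) g g' f' hc hW
    (fun _ k => k.2.1) hW' e).2 hsep⟩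

variable {f g g' f'} in
include hc in
theorem Dom.sepBC_of_baseChange (h : Dom f') {W : X.Opens} (hW : IsAffineOpen W)
    {W' : X'.Opens} (hW' : IsAffineOpen W') (e : W' ≤ g ⁻¹ᵁ W) :
    letI : ∀ j : Σ i, AffOver f W i, Algebra Γ(X, W) Γ(Z j.1, j.2.1) := fun j =>
      ((f j.1).appLE W j.2.1 j.2.2.2).hom.toAlgebra
    letI : Algebra Γ(X, W) Γ(X', W') := (g.appLE W W' e).hom.toAlgebra
    SepBC (R := Γ(X, W)) (M := Γ(X, W)) (G := fun j : Σ i, AffOver f W i => Γ(Z j.1, j.2.1))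
      (fun j => Algebra.linearMap Γ(X, W) Γ(Z j.1, j.2.1)) Γ(X', W') := by
  refine (domSep_baseChange_iff f (K := AffOver f W) (P := fun _ k => k.1) (fun _ k => k.2.2) g g' f' hc hW
    (fun _ k => k.2.1) hW' e).1
    (h.domSep _ hW' fun i z hz => ?_)
  have hgz : f i (g' i z) ∈ W := by
    rw [← Scheme.Hom.comp_apply, (hc i).w, Scheme.Hom.comp_apply]
    exact e hz
  obtain ⟨k, hk⟩ := exists_affOver f i (g' i z) hgz
  exact ⟨k, hk, hz⟩

variable {f} in
theorem Dom.baseChange_flat_lfp [Flat g] [LocallyOfFinitePresentation g] (h : Dom f) :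
    Dom fun i => pullback.snd (f i) g := by
  refine dom_of_sepBC f (g' := fun i => pullback.fst (f i) g)
    (fun i => IsPullback.of_hasPullback (f i) g) fun x' => ?_
  obtain ⟨W, W', hW, hW', hx', e⟩ := exists_affine_pair g x'
  refine ⟨W, W', e, hW, hW', hx', ?_⟩
  letI : ∀ j : Σ i, AffOver f W i, Algebra Γ(X, W) Γ(Z j.1, j.2.1) := fun j =>
    ((f j.1).appLE W j.2.1 j.2.2.2).hom.toAlgebra
  letI : Algebra Γ(X, W) Γ(X', W') := (g.appLE W W' e).hom.toAlgebra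
  haveI : Module.Flat Γ(X, W) Γ(X', W') :=
    HasRingHomProperty.appLE @Flat g inferInstance ⟨W, hW⟩ ⟨W', hW'⟩ e
  haveI : Algebra.FinitePresentation Γ(X, W) Γ(X', W') := g.finitePresentation_appLE hW hW' e
  exact (h.sep_affOver hW).baseChange_of_flat_fp _

section Base


variable {S S' : Scheme.{u}} (p : X ⟶ S) (q : S' ⟶ S)

/-- On affine pieces of a fibre product the base change is along the tensor product. -/
theorem sepBC_congr_fibreProduct {X'' : Scheme.{u}} {g : X'' ⟶ X} {h : X'' ⟶ S'} {p : X ⟶ S}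
    {q : S' ⟶ S} (hcc : IsPullback g h p q) {V : S.Opens} {W : X.Opens} {V' : S'.Opens}
    (hV : IsAffineOpen V) (hW : IsAffineOpen W) (hV' : IsAffineOpen V')
    (e : W ≤ p ⁻¹ᵁ V) (e' : V' ≤ q ⁻¹ᵁ V) {M : Type u} [AddCommGroup M] [Module Γ(X, W) M]
    {J : Type u} {G : J → Type u} [∀ j, AddCommGroup (G j)] [∀ j, Module Γ(X, W) (G j)]
    (v : ∀ j, M →ₗ[Γ(X, W)] G j) :
    letI : Algebra Γ(S, V) Γ(X, W) := (p.appLE V W e).hom.toAlgebra
    letI : Algebra Γ(S, V) Γ(S', V') := (q.appLE V V' e').hom.toAlgebra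
    letI : Algebra Γ(X, W) Γ(X'', g ⁻¹ᵁ W ⊓ h ⁻¹ᵁ V') := (g.appLE W _ inf_le_left).hom.toAlgebra
    SepBC v Γ(X'', g ⁻¹ᵁ W ⊓ h ⁻¹ᵁ V') ↔ SepBC v (Γ(X, W) ⊗[Γ(S, V)] Γ(S', V')) := by
  obtain ⟨hW', hpo⟩ := isPushout_appLE hcc hV hW hV' e e'
  letI : Algebra Γ(S, V) Γ(X, W) := (p.appLE V W e).hom.toAlgebra
  letI : Algebra Γ(S, V) Γ(S', V') := (q.appLE V V' e').hom.toAlgebra
  letI : Algebra Γ(X, W) Γ(X'', g ⁻¹ᵁ W ⊓ h ⁻¹ᵁ V') := (g.appLE W _ inf_le_left).hom.toAlgebra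
  letI : Algebra Γ(S', V') Γ(X'', g ⁻¹ᵁ W ⊓ h ⁻¹ᵁ V') :=
    (h.appLE V' _ inf_le_right).hom.toAlgebra
  letI : Algebra Γ(S, V) Γ(X'', g ⁻¹ᵁ W ⊓ h ⁻¹ᵁ V') :=
    ((g.appLE W _ inf_le_left).hom.comp (p.appLE V W e).hom).toAlgebra
  haveI : IsScalarTower Γ(S, V) Γ(X, W) Γ(X'', g ⁻¹ᵁ W ⊓ h ⁻¹ᵁ V') :=
    .of_algebraMap_eq fun _ => rfl
  haveI : IsScalarTower Γ(S, V) Γ(S', V') Γ(X'', g ⁻¹ᵁ W ⊓ h ⁻¹ᵁ V') :=
    .of_algebraMap_eq' (by
      show ((p.appLE V W e) ≫ g.appLE W _ inf_le_left).hom =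
        ((q.appLE V V' e') ≫ h.appLE V' _ inf_le_right).hom
      simp only [Scheme.Hom.appLE_comp_appLE, hcc.w])
  haveI := hpo.symm
  let ε := Algebra.IsPushout.equiv Γ(S, V) Γ(X, W) Γ(S', V') Γ(X'', g ⁻¹ᵁ W ⊓ h ⁻¹ᵁ V')
  exact ⟨Sep.baseChange_congr ε.symm, Sep.baseChange_congr ε⟩

/-- The base change of one member of the family. -/
noncomputable abbrev mapBase (i : ι) : pullback (f i ≫ p) q ⟶ pullback p q :=
  pullback.map (f i ≫ p) q p q (f i) (𝟙 S') (𝟙 S) (Category.comp_id _)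
    ((Category.comp_id _).trans (Category.id_comp _).symm)

theorem isPullback_mapBase (i : ι) :
    IsPullback (pullback.fst (f i ≫ p) q) (mapBase f p q i) (f i) (pullback.fst p q) := by
  refine IsPullback.of_bot ?_ (by simp [mapBase]) (IsPullback.of_hasPullback p q)
  convert IsPullback.of_hasPullback (f i ≫ p) q using 1
  simp [mapBase]

/-- Separation of the base changed functions gives domination after base change. -/
theorem dom_mapBase
    (H : ∀ {V : S.Opens} {W : X.Opens} {V' : S'.Opens} (_ : IsAffineOpen V) (_ : IsAffineOpen W)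
      (_ : IsAffineOpen V') (e : W ≤ p ⁻¹ᵁ V) (e' : V' ≤ q ⁻¹ᵁ V),
        letI : Algebra Γ(S, V) Γ(X, W) := (p.appLE V W e).hom.toAlgebra
        letI : Algebra Γ(S, V) Γ(S', V') := (q.appLE V V' e').hom.toAlgebra
        letI : ∀ j : Σ i, AffOver f W i, Algebra Γ(X, W) Γ(Z j.1, j.2.1) := fun j =>
          ((f j.1).appLE W j.2.1 j.2.2.2).hom.toAlgebra
        SepBC (R := Γ(X, W)) (M := Γ(X, W)) (G := fun j : Σ i, AffOver f W i => Γ(Z j.1, j.2.1))
          (fun j => Algebra.linearMap Γ(X, W) Γ(Z j.1, j.2.1))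
          (Γ(X, W) ⊗[Γ(S, V)] Γ(S', V'))) :
    Dom fun i => mapBase f p q i := by
  refine dom_of_sepBC f (isPullback_mapBase f p q) fun x' => ?_
  have hcc := IsPullback.of_hasPullback p q
  obtain ⟨V, W, V', hV, hW, hV', e, e', hxW, hxV'⟩ := exists_affines hcc x'
  obtain ⟨hW', hpo⟩ := isPushout_appLE hcc hV hW hV' e e'
  refine ⟨W, _, inf_le_left, hW, hW', ⟨hxW, hxV'⟩, ?_⟩
  letI : ∀ j : Σ i, AffOver f W i, Algebra Γ(X, W) Γ(Z j.1, j.2.1) := fun j =>
    ((f j.1).appLE W j.2.1 j.2.2.2).hom.toAlgebra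
  exact (sepBC_congr_fibreProduct hcc hV hW hV' e e' _).2 (H hV hW hV' e e')

variable {f} in
theorem Dom.mapBase_of_field {k : Type u} [Field k] {S' : Scheme.{u}}
    (p : X ⟶ Spec (CommRingCat.of k)) (q : S' ⟶ Spec (CommRingCat.of k)) (h : Dom f) :
    Dom fun i => mapBase f p q i := by
  refine dom_mapBase f p q fun {V W V'} hV hW hV' e e' => ?_
  letI : Algebra Γ(Spec (CommRingCat.of k), V) Γ(X, W) := (p.appLE V W e).hom.toAlgebra
  letI : Algebra Γ(Spec (CommRingCat.of k), V) Γ(S', V') := (q.appLE V V' e').hom.toAlgebra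
  letI : ∀ j : Σ i, AffOver f W i, Algebra Γ(X, W) Γ(Z j.1, j.2.1) := fun j =>
    ((f j.1).appLE W j.2.1 j.2.2.2).hom.toAlgebra
  haveI : Subsingleton (Spec (CommRingCat.of k)) :=
    inferInstanceAs (Subsingleton (PrimeSpectrum k))
  by_cases hne : ∃ x, x ∈ V
  · obtain rfl : V = ⊤ := by
      obtain ⟨y, hy⟩ := hne
      ext x
      exact ⟨fun _ => trivial, fun _ => Subsingleton.elim y x ▸ hy⟩
    letI := (MulEquiv.isField (Field.toIsField k)
      (Scheme.ΓSpecIso (CommRingCat.of k)).commRingCatIsoToRingEquiv.toMulEquiv).toField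
    exact (h.sep_affOver hW).baseChange_of_field Γ(S', V')
  · obtain rfl : V = ⊥ := by
      ext x
      exact ⟨fun hx => (hne ⟨x, hx⟩).elim, fun hx => hx.elim⟩
    intro a m _
    haveI : Subsingleton (Γ(X, W) ⊗[Γ(Spec (CommRingCat.of k), ⊥)] Γ(S', V')) :=
      Module.subsingleton Γ(Spec (CommRingCat.of k), ⊥) _
    exact ⟨0, (Module.subsingleton (Γ(X, W) ⊗[Γ(Spec (CommRingCat.of k), ⊥)] Γ(S', V')) _).elim _ _⟩

theorem univ_dom_iff_fibrewise [IsLocallyNoetherian X] [∀ i, Flat (f i ≫ p)] :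
    (∀ (S' : Scheme.{u}) (q : S' ⟶ S), Dom fun i => mapBase f p q i) ↔
      ∀ s : S, Dom fun i => MoreMor.fiberMap (f i) p s := by
  have hfib : ∀ s i, MoreMor.fiberMap (f i) p s = mapBase f p (S.fromSpecResidueField s) i := by
    intro s i
    apply pullback.hom_ext <;> simp [MoreMor.fiberMap, mapBase] <;> rfl
  refine ⟨fun h s => by simp only [hfib]; exact h _ _, fun h S' q => ?_⟩
  refine dom_mapBase f p q fun {V W V'} hV hW hV' e e' => ?_
  letI : Algebra Γ(S, V) Γ(X, W) := (p.appLE V W e).hom.toAlgebra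
  letI : Algebra Γ(S, V) Γ(S', V') := (q.appLE V V' e').hom.toAlgebra
  letI : ∀ j : Σ i, AffOver f W i, Algebra Γ(X, W) Γ(Z j.1, j.2.1) := fun j =>
    ((f j.1).appLE W j.2.1 j.2.2.2).hom.toAlgebra
  have eV : ∀ j : Σ i, AffOver f W i, j.2.1 ≤ (f j.1 ≫ p) ⁻¹ᵁ V := fun j =>
    j.2.2.2.trans fun z hz => e hz
  letI : ∀ j : Σ i, AffOver f W i, Algebra Γ(S, V) Γ(Z j.1, j.2.1) := fun j =>
    ((f j.1 ≫ p).appLE V j.2.1 (eV j)).hom.toAlgebra
  haveI : ∀ j : Σ i, AffOver f W i, IsScalarTower Γ(S, V) Γ(X, W) Γ(Z j.1, j.2.1) := fun j =>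
    .of_algebraMap_eq' (by
      show ((f j.1 ≫ p).appLE V j.2.1 (eV j)).hom =
        (p.appLE V W e ≫ (f j.1).appLE W j.2.1 j.2.2.2).hom
      rw [Scheme.Hom.appLE_comp_appLE])
  haveI : ∀ j : Σ i, AffOver f W i, Module.Flat Γ(S, V) Γ(Z j.1, j.2.1) := fun j =>
    HasRingHomProperty.appLE @Flat (f j.1 ≫ p) inferInstance ⟨V, hV⟩ ⟨j.2.1, j.2.2.1⟩ (eV j)
  haveI : IsNoetherianRing Γ(X, W) := IsLocallyNoetherian.component_noetherian ⟨W, hW⟩
  refine sepBC_of_fibres (fun P hP => ?_) _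
  let s : S := hV.fromSpec ⟨P, hP⟩
  have e₀ : (⊤ : (Spec (S.residueField s)).Opens) ≤ S.fromSpecResidueField s ⁻¹ᵁ V := fun z _ => by
    show S.fromSpecResidueField s z ∈ V
    rw [Scheme.fromSpecResidueField_apply]
    exact hV.range_fromSpec.le ⟨_, rfl⟩
  have hcc := IsPullback.of_hasPullback p (S.fromSpecResidueField s)
  obtain ⟨hW', hpo⟩ := isPushout_appLE hcc hV hW (isAffineOpen_top _) e e₀
  have hdom : Dom fun i => mapBase f p (S.fromSpecResidueField s) i := by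
    have := h s
    simp only [hfib] at this
    exact this
  have hsep := hdom.sepBC_of_baseChange (isPullback_mapBase f p _) hW hW' inf_le_left
  letI : Algebra Γ(S, V) Γ(Spec (S.residueField s), ⊤) :=
    ((S.fromSpecResidueField s).appLE V ⊤ e₀).hom.toAlgebra
  letI : Field Γ(Spec (S.residueField s), ⊤) := (MulEquiv.isField (Field.toIsField _)
    (Scheme.ΓSpecIso (S.residueField s)).commRingCatIsoToRingEquiv.toMulEquiv).toField
  refine sepBC_residueField P Γ(Spec (S.residueField s), ⊤) ?_ ?_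
  · let z : ↥(Spec (S.residueField s)) := IsLocalRing.closedPoint _
    have hz : ((isAffineOpen_top _).primeIdealOf
        ⟨z, show z ∈ (⊤ : (Spec (S.residueField s)).Opens) from trivial⟩).asIdeal = ⊥ :=
      (Ideal.eq_bot_or_top _).resolve_right Ideal.IsPrime.ne_top'
    have hcm := congrArg PrimeSpectrum.asIdeal (IsAffineOpen.comap_primeIdealOf_appLE
      (f := S.fromSpecResidueField s) V hV ⊤ (isAffineOpen_top _) e₀ (x := z) trivial)
    rw [RingHom.ker_eq_comap_bot, ← hz]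
    refine hcm.trans ?_
    have : hV.primeIdealOf ⟨S.fromSpecResidueField s z, e₀ trivial⟩ = ⟨P, hP⟩ :=
      hV.fromSpec.isOpenEmbedding.injective ((hV.fromSpec_primeIdealOf _).trans
        (Scheme.fromSpecResidueField_apply s z))
    rw [this]
  · exact (sepBC_congr_fibreProduct hcc hV hW (isAffineOpen_top _) e e₀ _).1 hsep

end Base

end Groth.Agent.SepLib
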